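import Cfsg.Agent.N2.Alt.Defs
import Cfsg.Agent.H427.Bochert

/-!
# N2 (S3519), alternating groups: the affine groups (helper60)
-/

set_option autoImplicit false
set_option linter.unusedSectionVars false

namespace Cfsg.Agent.N2.Alt

open Equiv Equiv.Perm MulAction Subgroup Cfsg.Agent.FP3

namespace Aff

variable {Ω : Type} [Fintype Ω] [DecidableEq Ω] {V : Subgroup (Perm Ω)}

/-- `V` is the group of translations in the coordinates `e` -/
def Co {K : Type} [AddCommGroup K] (e : K ≃ Ω) (V : Subgroup (Perm Ω)) : Prop :=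
  ∀ σ, σ ∈ V ↔ ∃ k, ∀ x, σ (e x) = e (k + x)

theorem bij (hc : ∀ v ∈ V, ∀ w ∈ V, v * w = w * v) (htr : IsPretransitive V Ω) (ω : Ω) :
    Function.Bijective fun v : V => v.1 ω := by
  refine ⟨fun v w h => Subtype.ext (Equiv.ext fun x => ?_), fun x => htr.exists_smul_eq ω x⟩
  obtain ⟨u, rfl⟩ := htr.exists_smul_eq ω x
  change (v.1 * u.1) ω = (w.1 * u.1) ω
  rw [hc _ v.2 _ u.2, hc _ w.2 _ u.2]
  exact congrArg u.1 h

theorem exists_addEquiv {p : ℕ} [hp : Fact p.Prime] (M : Type) [AddCommGroup M] [Finite M] (h : ∀ x : M, p • x = 0) :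
    ∃ d, Nat.card M = p ^ d ∧ ∀ (K : Type) [AddCommGroup K] [Module (ZMod p) K] [Finite K], Nat.card K = p ^ d →
      Nonempty (K ≃+ M) := by
  have key : ∀ (K : Type) [AddCommGroup K] [Module (ZMod p) K] [Finite K],
      Nat.card K = p ^ Module.finrank (ZMod p) K := fun K _ _ _ => by
    rw [Module.natCard_eq_pow_finrank (K := ZMod p), Nat.card_zmod]
  have key' : ∀ (K L : Type) [AddCommGroup K] [Module (ZMod p) K] [Finite K] [AddCommGroup L] [Module (ZMod p) L]
      [Finite L], Nat.card K = Nat.card L → Nonempty (K ≃+ L) := fun K L _ _ _ _ _ _ hK => by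
    rw [key K, key L] at hK
    exact ⟨(LinearEquiv.ofFinrankEq K L (Nat.pow_right_injective hp.out.two_le hK)).toAddEquiv⟩
  let _ : Module (ZMod p) M := AddCommGroup.zmodModule h
  exact ⟨_, key M, fun K _ _ _ hK => key' K M (hK.trans (key M).symm)⟩

theorem exists_coord {p : ℕ} (hp : p.Prime) (h1 : ∀ v ∈ V, v ^ p = 1) (hc : ∀ v ∈ V, ∀ w ∈ V, v * w = w * v)
    (htr : IsPretransitive V Ω) (ω : Ω) : ∃ d, Nat.card V = p ^ d ∧ ∀ (K : Type) [AddCommGroup K] [Module (ZMod p) K]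
      [Finite K], Nat.card K = p ^ d → ∃ e : K ≃ Ω, Co e V := by
  have : Fact p.Prime := ⟨hp⟩
  let _ : CommGroup V := { (inferInstance : Group V) with mul_comm := fun a b => Subtype.ext (hc _ a.2 _ b.2) }
  obtain ⟨d, h2, h3⟩ := exists_addEquiv (p := p) (Additive V) fun x => Subtype.ext (h1 _ x.toMul.2)
  refine ⟨d, h2, fun K _ _ _ hK => ?_⟩
  obtain ⟨θ⟩ := h3 K hK
  refine ⟨θ.toEquiv.trans (Equiv.ofBijective _ (bij hc htr ω)),
    fun σ => ⟨fun hσ => ⟨θ.symm (.ofMul ⟨σ, hσ⟩), fun x => ?_⟩, ?_⟩⟩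
  · change _ = (θ (_ + x)).toMul.1 ω
    rw [map_add, θ.apply_symm_apply]
    rfl
  · rintro ⟨k, hk⟩
    have h3 : σ = (θ k).toMul.1 := Equiv.ext fun y => by
      obtain ⟨x, rfl⟩ := (θ.toEquiv.trans (Equiv.ofBijective _ (bij hc htr ω))).surjective y
      rw [hk]
      change (θ (k + x)).toMul.1 ω = _
      rw [map_add]
      rfl
    exact h3 ▸ (θ k).toMul.2

section lin

variable {K : Type} [AddCommGroup K] {e : K ≃ Ω}

theorem ext_e {σ τ : Perm Ω} (h : ∀ x, σ (e x) = τ (e x)) : σ = τ := Equiv.ext fun y => by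
  obtain ⟨x, rfl⟩ := e.surjective y
  exact h x

theorem exists_lin (h : Co e V) (φ : K ≃+ K) : ∃ σ ∈ normalizer (V : Set (Perm Ω)), ∀ x, σ (e x) = e (φ x) := by
  have h1 : ∀ x, e.permCongr φ.toEquiv (e x) = e (φ x) := fun x => by simp
  refine ⟨_, mem_normalizer_fintype fun n hn => ?_, h1⟩
  obtain ⟨k, hk⟩ := (h n).1 hn
  refine (h _).2 ⟨φ k, fun x => ?_⟩
  obtain ⟨y, rfl⟩ := φ.surjective x
  rw [mul_apply, mul_apply, ← h1, H427.piis, hk, h1, map_add]

/-- the fixed points of an affine map fixing the origin form a subgroup -/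
theorem fix_add (h : Co e V) {σ : Perm Ω} (hσ : σ ∈ normalizer (V : Set (Perm Ω))) (h0 : σ (e 0) = e 0) {k x : K}
    (hk : σ (e k) = e k) (hx : σ (e x) = e x) : σ (e (k + x)) = e (k + x) := by
  have h1 : ∀ y, e.permCongr (Equiv.addLeft k) (e y) = e (k + y) := fun y => by simp
  obtain ⟨k', hk'⟩ := (h _).1 ((mem_normalizer_iff.1 hσ _).1 ((h _).2 ⟨k, h1⟩))
  have h2 := hk' 0
  rw [← h0, mul_apply, mul_apply, H427.piis, h1, add_zero, add_zero, hk, e.apply_eq_iff_eq] at h2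
  have h3 := hk' x
  rwa [← hx, mul_apply, mul_apply, H427.piis, h1, ← h2] at h3

end lin

theorem card_al_le (H : Subgroup (Perm Ω)) : Nat.card (al H) ≤ Nat.card H :=
  Nat.card_le_card_of_injective (fun a => ⟨a.1.1, a.2⟩) fun _ _ h =>
    Subtype.ext (Subtype.ext (congrArg (fun x : H => x.1) h))

theorem card_alt (h : 7 ≤ Fintype.card Ω) : 2 * Nat.card (alternatingGroup Ω) = (Fintype.card Ω).factorial := by
  have : Nontrivial Ω := Fintype.one_lt_card_iff_nontrivial.1 (by omega)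
  rw [two_mul_nat_card_alternatingGroup, Nat.card_perm, Nat.card_eq_fintype_card]

theorem fin_le {H : Subgroup (Perm Ω)} (hP : Pr H) {c : ℕ} (hc : 2 * c ≤ ((Fintype.card Ω + 1) / 2).factorial) :
    c * Nat.card (al H) ≤ Nat.card (alternatingGroup Ω) := by
  have h1 := H427.bochert H hP.prim hP.nle
  rw [← card_alt hP.card] at h1
  have h2 := Nat.mul_le_mul (card_al_le H) hc
  nlinarith

theorem sq_mem (σ : Perm Ω) : σ * σ ∈ alternatingGroup Ω := by
  rw [mem_alternatingGroup, Perm.sign_mul, Int.units_mul_self]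

/-! ### prime degree -/

theorem good_prime {p : ℕ} (hp : p.Prime) (h1 : Nat.card V = p) (h2 : Fintype.card Ω = p)
    (he : V ≤ alternatingGroup Ω) : Good (al (normalizer (V : Set (Perm Ω)))) := by
  have : Fact p.Prime := ⟨hp⟩
  have hV : IsPGroup p V := IsPGroup.of_card (n := 1) (by rw [h1, pow_one])
  have hi : ¬ p ∣ V.index := fun h => by
    have h3 := V.card_mul_index
    rw [h1, Nat.card_perm, Nat.card_eq_fintype_card, h2, ← Nat.mul_factorial_pred hp.ne_zero,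
      Nat.mul_right_inj hp.ne_zero] at h3
    rw [h3, hp.dvd_factorial] at h
    have := hp.pos
    omega
  have : Nontrivial V := Finite.one_lt_card_iff_nontrivial.1 (h1 ▸ hp.one_lt)
  obtain ⟨a, ha⟩ := exists_ne (1 : V)
  refine good_of_one (a := ⟨a.1, he a.2⟩) (le_normalizer a.2) (fx_le_one fun t ht => ?_)
  have h3 : zpowers a = ⊤ := zpowers_eq_top_of_prime_card h1 ha
  have h4 : IsPGroup p (zpowers (t.1⁻¹ * a.1 * t.1)) := by
    rintro ⟨_, k, rfl⟩
    obtain ⟨j, hj⟩ := hV (a ^ k)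
    refine ⟨j, Subtype.ext ?_⟩
    have h5 := congrArg (fun x : V => MulAut.conj t.1⁻¹ x.1) hj
    simpa only [SubgroupClass.coe_pow, SubgroupClass.coe_zpow, map_pow, map_zpow, OneMemClass.coe_one, map_one,
      MulAut.conj_apply, inv_inv] using h5
  have h5 : t.1⁻¹ * a.1 * t.1 ∈ V :=
    ((h4.inf_normalizer_sylow (hV.toSylow hi)).le ⟨mem_zpowers _, ht⟩).2
  refine inv_mem_iff.1 (mem_normalizer_fintype (S := (V : Set (Perm Ω))) fun n hn => ?_)
  obtain ⟨k, hk⟩ := h3.ge (mem_top (⟨n, hn⟩ : V))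
  have h6 : n = a.1 ^ k := (congrArg Subtype.val hk).symm
  have h7 := zpow_mem h5 k
  rw [← inv_inv t.1, inv_inv t.1⁻¹, conj_zpow, ← h6] at h7
  exact h7

/-! ### Singer cycles -/

section sing

variable {K : Type} [Field K] [Finite K] {e : K ≃ Ω}

theorem exists_sing (h : Co e V) (g : Kˣ) : ∃ a ∈ al (normalizer (V : Set (Perm Ω))),
    ∀ x, a.1 (e x) = e ((g : K) ^ 2 * x) := by
  obtain ⟨σ, h1, h2⟩ := exists_lin h (DistribMulAction.toAddEquiv K g)
  refine ⟨⟨σ * σ, sq_mem σ⟩, mul_mem h1 h1, fun x => ?_⟩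
  change σ (σ (e x)) = _
  rw [h2, h2, pow_two, mul_assoc]
  rfl

variable {a : alternatingGroup Ω} {u : K} (ha : ∀ x, a.1 (e x) = e (u * x))
include ha

theorem cen_mul (c : centralizer ({a} : Set (alternatingGroup Ω))) (x : K) : c.1.1 (e (u * x)) = a.1 (c.1.1 (e x)) := by
  rw [← ha]
  exact (congrArg (fun s : alternatingGroup Ω => s.1 (e x)) (c.2 a rfl)).symm

theorem cen_zero (hu : u ≠ 1) (c : centralizer ({a} : Set (alternatingGroup Ω))) : c.1.1 (e 0) = e 0 := by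
  obtain ⟨y, hy⟩ := e.surjective (c.1.1 (e 0))
  have h1 := cen_mul ha c 0
  rw [mul_zero, ← hy, ha, e.apply_eq_iff_eq] at h1
  have h2 : (u - 1) * y = 0 := by linear_combination -h1
  rw [← hy, (mul_eq_zero.1 h2).resolve_left (sub_ne_zero.2 hu)]

theorem cen_pow {c c' : centralizer ({a} : Set (alternatingGroup Ω))} {x : K} (h : c.1.1 (e x) = c'.1.1 (e x)) (i : ℕ) :
    c.1.1 (e (u ^ i * x)) = c'.1.1 (e (u ^ i * x)) := by
  induction i with
  | zero => rwa [pow_zero, one_mul]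
  | succ i ih => rw [pow_succ', mul_assoc, cen_mul ha, cen_mul ha, ih]

theorem cn_two (hu : u ≠ 1) {g : K} (hg : ∀ x : K, x ≠ 0 → ∃ i, x = u ^ i * 1 ∨ x = u ^ i * g) :
    cn a ≤ Fintype.card Ω ^ 2 := by
  rw [pow_two, ← Fintype.card_prod, ← Nat.card_eq_fintype_card]
  refine Nat.card_le_card_of_injective (fun c => (c.1.1 (e 1), c.1.1 (e g))) fun c c' h =>
    Subtype.ext (Subtype.ext (ext_e (e := e) fun x => ?_))
  by_cases h0 : x = 0
  · rw [h0, cen_zero ha hu, cen_zero ha hu]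
  obtain ⟨i, rfl | rfl⟩ := hg x h0
  exacts [cen_pow ha (congrArg Prod.fst h) i, cen_pow ha (congrArg Prod.snd h) i]

theorem cn_one (hu : u ≠ 1) (hg : ∀ x : K, x ≠ 0 → ∃ i, x = u ^ i * 1) : cn a ≤ Fintype.card Ω - 1 := by
  rw [← Fintype.card_subtype_eq (e 0), ← Fintype.card_subtype_compl, ← Nat.card_eq_fintype_card]
  refine Nat.card_le_card_of_injective (fun c => ⟨c.1.1 (e 1), fun h => ?_⟩) fun c c' h =>
    Subtype.ext (Subtype.ext (ext_e (e := e) fun x => ?_))
  · rw [← cen_zero ha hu c, c.1.1.apply_eq_iff_eq, e.apply_eq_iff_eq] at h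
    exact one_ne_zero h
  by_cases h0 : x = 0
  · rw [h0, cen_zero ha hu, cen_zero ha hu]
  obtain ⟨i, rfl⟩ := hg x h0
  exact cen_pow ha (congrArg Subtype.val h) i

omit ha in
theorem exists_gen (h : 4 ≤ Nat.card K) : ∃ g : Kˣ, (g : K) ^ 2 ≠ 1 ∧ ∀ x : K, x ≠ 0 → ∃ i, x = (g : K) ^ i := by
  obtain ⟨g, hg⟩ := IsCyclic.exists_monoid_generator (α := Kˣ)
  refine ⟨g, fun h1 => ?_, fun x hx => ?_⟩
  · have h2 := orderOf_dvd_of_pow_eq_one (Units.ext h1 : g ^ 2 = 1)
    rw [orderOf_eq_card_of_forall_mem_powers hg, Nat.card_units] at h2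
    have := Nat.le_of_dvd two_pos h2
    omega
  · obtain ⟨i, hi⟩ := hg (Units.mk0 x hx)
    exact ⟨i, (congrArg Units.val hi).symm⟩

omit ha in
theorem num6 (m : ℕ) (h : 13 ≤ m) : 2 * ((2 * m) ^ 2) ^ 3 ≤ m.factorial := by
  induction m, h using Nat.le_induction with
  | base => decide
  | succ m hm ih =>
    rw [Nat.factorial_succ]
    have h1 : (2 * (m + 1)) ^ 2 ≤ 2 * (2 * m) ^ 2 := by nlinarith
    have h2 := Nat.pow_le_pow_left h1 3
    rw [mul_pow 2 ((2 * m) ^ 2)] at h2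
    nlinarith

omit ha in
theorem num3 (m : ℕ) (h : 8 ≤ m) : 2 * (2 * m) ^ 3 ≤ m.factorial := by
  induction m, h using Nat.le_induction with
  | base => decide
  | succ m hm ih =>
    rw [Nat.factorial_succ]
    have h2 := Nat.pow_le_pow_left (show 2 * (m + 1) ≤ 2 * (2 * m) by omega) 3
    rw [mul_pow 2 (2 * m)] at h2
    nlinarith

omit ha in
theorem good_big (h : Co e V) (hP : Pr (normalizer (V : Set (Perm Ω)))) (h25 : 25 ≤ Fintype.card Ω) :
    Good (al (normalizer (V : Set (Perm Ω)))) := by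
  obtain ⟨g, h1, h2⟩ := exists_gen (K := K) (by rw [Nat.card_congr e, Nat.card_eq_fintype_card]; omega)
  obtain ⟨a, ha, ha'⟩ := exists_sing h g
  refine good_of_cn ha (cn_two ha' h1 (g := g) fun x hx => ?_) (fin_le hP (le_trans ?_ (num6 _ (by omega))))
  · obtain ⟨i, rfl⟩ := h2 x hx
    obtain ⟨j, rfl | rfl⟩ := Nat.even_or_odd' i
    exacts [⟨j, Or.inl (by ring)⟩, ⟨j, Or.inr (by ring)⟩]
  · exact Nat.mul_le_mul_left 2 (Nat.pow_le_pow_left (Nat.pow_le_pow_left (by omega) 2) 3)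

omit ha in
theorem exists_two [CharP K 2] (h : Co e V) (h4 : 4 ≤ Fintype.card Ω) : ∃ u : K, u ≠ 0 ∧ u ≠ 1 ∧
    ∃ a ∈ al (normalizer (V : Set (Perm Ω))), (∀ x, a.1 (e x) = e (u * x)) ∧ cn a ≤ Fintype.card Ω - 1 := by
  obtain ⟨g, h1, h2⟩ := exists_gen (K := K) (by rwa [Nat.card_congr e, Nat.card_eq_fintype_card])
  obtain ⟨a, ha, ha'⟩ := exists_sing h g
  refine ⟨_, pow_ne_zero 2 g.ne_zero, h1, a, ha, ha', cn_one ha' h1 fun x hx => ?_⟩
  obtain ⟨y, rfl⟩ := FiniteField.isSquare_of_char_two (ringChar.eq K 2) x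
  obtain ⟨i, rfl⟩ := h2 y (left_ne_zero_of_mul hx)
  exact ⟨i, by ring⟩

omit ha in
theorem good_eight [CharP K 2] (h : Co e V) (hP : Pr (normalizer (V : Set (Perm Ω)))) (h8 : Fintype.card Ω = 8) :
    Good (al (normalizer (V : Set (Perm Ω)))) := by
  have : Fact (Nat.Prime 7) := ⟨by norm_num⟩
  have : Fact (Nat.Prime 3) := ⟨by norm_num⟩
  have := Fintype.ofFinite K
  have hK : ∀ x : K, x ^ 8 = x := fun x => by rw [← h8, ← Fintype.card_congr e, FiniteField.pow_card]
  obtain ⟨u, h0, h1, a, ha, ha', hc⟩ := exists_two h (by omega)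
  have hT : Nat.card (alternatingGroup Ω) = 20160 := by
    have h2 := card_alt hP.card
    rw [h8, show Nat.factorial 8 = 40320 from rfl] at h2
    omega
  have hu : u ^ 7 = 1 := mul_right_cancel₀ h0 (by rw [← pow_succ, hK, one_mul])
  have o7 : orderOf a = 7 := orderOf_eq_prime (Subtype.ext (ext_e (e := e) fun x => by
      simp only [pow_succ, pow_zero, one_mul, Subgroup.coe_mul, mul_apply, ha', OneMemClass.coe_one, one_apply]
      congr 1
      linear_combination x * hu))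
    fun h2 => h1 (by simpa [h2] using (ha' 1).symm)
  obtain ⟨σ, s1, s2⟩ := exists_lin h (frobeniusEquiv K 2).toAddEquiv
  have s3 : ∀ x, σ (e x) = e (x ^ 2) := s2
  let f : alternatingGroup Ω := ⟨σ * σ, sq_mem σ⟩
  have hf : ∀ x, f.1 (e x) = e (x ^ 4) := fun x => by
    change σ (σ (e x)) = _
    rw [s3, s3, ← pow_mul]
  have o3 : orderOf f = 3 := orderOf_eq_prime (Subtype.ext (ext_e (e := e) fun x => by
      simp only [pow_succ f, pow_zero, one_mul, Subgroup.coe_mul, mul_apply, hf, OneMemClass.coe_one, one_apply]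
      rw [← pow_mul, ← pow_mul, show 4 * (4 * 4) = 8 * 8 from rfl, pow_mul, hK, hK]))
    fun h2 => h1 (by
      have h3 : u ^ 4 = u := by simpa [h2] using (hf u).symm
      have h4 : u ^ 3 = 1 := mul_right_cancel₀ h0 (by rw [← pow_succ, h3, one_mul])
      linear_combination hu - (u ^ 4 + u) * h4)
  have hfa : f * a * f⁻¹ = a ^ 4 := by
    rw [mul_inv_eq_iff_eq_mul]
    refine Subtype.ext (ext_e (e := e) fun x => ?_)
    simp only [pow_succ a, pow_zero, one_mul, Subgroup.coe_mul, mul_apply, hf, ha']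
    congr 1
    ring
  have hR : Nat.card (zpowers a) = 7 := by rw [Nat.card_zpowers, o7]
  refine good_of_sylow ha le_rfl (p := 7) (by norm_num) (IsPGroup.of_card (n := 1) (by rw [hR, pow_one])) (fun h2 => ?_)
    (c := 2) ?_ (fin_le hP (by rw [h8]; decide))
  · have h3 := (zpowers a).relIndex_mul_index (zpowers_le.2 ha)
    have h4 := (zpowers a).card_mul_index
    rw [hR, hT, ← h3] at h4
    obtain ⟨k, hk⟩ := h2
    rw [hk, mul_assoc] at h4
    omega
  have h2 : Nat.card (normalizer (zpowers a : Set (alternatingGroup Ω))) ≤ 6 * 7 := by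
    let N := normalizer (zpowers a : Set (alternatingGroup Ω))
    let φ : N → {y : zpowers a // ¬ y = 1} := fun t => ⟨⟨t.1 * a * t.1⁻¹, (mem_normalizer_iff.1 t.2 a).1 (mem_zpowers a)⟩,
      fun h3 => by
        have h4 : t.1 * a * t.1⁻¹ = 1 := congrArg Subtype.val h3
        rw [conj_eq_one_iff] at h4
        rw [h4, orderOf_one] at o7
        omega⟩
    have h3 : Nat.card {y : zpowers a // ¬ y = 1} = 6 := by
      classical
      have := Fintype.ofFinite (zpowers a)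
      rw [Nat.card_eq_fintype_card, Fintype.card_subtype_compl, Fintype.card_subtype_eq, ← Nat.card_eq_fintype_card, hR]
    rw [h8] at hc
    refine le_trans ?_ (Nat.mul_le_mul h3.le hc)
    rw [cn, ← Nat.card_prod]
    refine Nat.card_le_card_of_injective (fun t : N => (φ t, ⟨(Function.invFun φ (φ t)).1⁻¹ * t.1, ?_⟩)) fun t t' h4 => ?_
    · have h4 : (Function.invFun φ (φ t)).1 * a * (Function.invFun φ (φ t)).1⁻¹ = t.1 * a * t.1⁻¹ :=
        congrArg (·.1.1) (Function.invFun_eq (f := φ) ⟨t, rfl⟩)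
      rw [mem_centralizer_singleton_iff]
      calc _ = (Function.invFun φ (φ t)).1⁻¹ * (t.1 * a * t.1⁻¹) * t.1 := by group
        _ = _ := by rw [← h4]; group
    · have h5 : φ t = φ t' := congrArg Prod.fst h4
      have h6 : (Function.invFun φ (φ t)).1⁻¹ * t.1 = (Function.invFun φ (φ t')).1⁻¹ * t'.1 := congrArg (·.2.1) h4
      rw [h5] at h6
      exact Subtype.ext (mul_left_cancel h6)
  have h3 : 21 ∣ Nat.card ↥(normalizer (zpowers a : Set (alternatingGroup Ω)) ⊓ al (normalizer (V : Set (Perm Ω)))) := by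
    refine Nat.Coprime.mul_dvd_of_dvd_of_dvd (m := 7) (n := 3) (by norm_num) ?_ ?_
    · rw [← o7]
      exact orderOf_dvd_natCard _ ⟨le_normalizer (mem_zpowers a), ha⟩
    · rw [← o3]
      refine orderOf_dvd_natCard _ ⟨mem_normalizer_fintype ?_, mul_mem s1 s1⟩
      rintro _ ⟨k, rfl⟩
      rw [← conj_zpow, hfa]
      exact zpow_mem (pow_mem (mem_zpowers a) 4) k
  have := Nat.le_of_dvd Nat.card_pos h3
  omega

end sing

/-! ### degree nine -/

/-- minus a transvection -/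
def φ₁ : ZMod 3 × ZMod 3 ≃+ ZMod 3 × ZMod 3 where
  toFun x := (x.1 + 2 * x.2, x.2)
  invFun x := (x.1 + x.2, x.2)
  left_inv := by decide
  right_inv := by decide
  map_add' := by decide

/-- a square root of minus one -/
def φ₂ : ZMod 3 × ZMod 3 ≃+ ZMod 3 × ZMod 3 where
  toFun x := (-x.2, x.1)
  invFun x := (x.2, -x.1)
  left_inv := by decide
  right_inv := by decide
  map_add' := by decide

/-- the element of order six -/
def ψ (x : ZMod 3 × ZMod 3) : ZMod 3 × ZMod 3 := (-x.1 - x.2, -x.2)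

theorem nine_cen (D : Perm (ZMod 3 × ZMod 3)) (h1 : ∀ x, D (ψ x) = ψ (D x)) (h2 : D (0, 1) = (0, 1)) :
    D = 1 ∨ D = swap (1, 0) (2, 0) := by
  have a1 : D (2, 2) = (2, 2) := (h1 (0, 1)).trans (congrArg ψ h2)
  have a2 : D (2, 1) = (2, 1) := (h1 (2, 2)).trans (congrArg ψ a1)
  have a3 : D (0, 2) = (0, 2) := (h1 (2, 1)).trans (congrArg ψ a2)
  have a4 : D (1, 1) = (1, 1) := (h1 (0, 2)).trans (congrArg ψ a3)
  have a5 : D (1, 2) = (1, 2) := (h1 (1, 1)).trans (congrArg ψ a4)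
  have a6 : D (0, 0) = (0, 0) := (by decide : ∀ z, z = ψ z → z = (0, 0)) _ (h1 (0, 0))
  have a7 : D (2, 0) = ψ (D (1, 0)) := h1 (1, 0)
  have a8 : D (1, 0) = ψ (D (2, 0)) := h1 (2, 0)
  have a9 : D (1, 0) ≠ (0, 0) := fun h => absurd (D.injective (h.trans a6.symm)) (by decide)
  have b : ∀ x : ZMod 3 × ZMod 3, x = (0, 0) ∨ x = (1, 0) ∨ x = (2, 0) ∨ x = (0, 1) ∨ x = (1, 1) ∨ x = (2, 1) ∨
    x = (0, 2) ∨ x = (1, 2) ∨ x = (2, 2) := by decide
  rw [a7] at a8
  rcases (by decide : ∀ z, z = ψ (ψ z) → z ≠ (0, 0) → z = (1, 0) ∨ z = (2, 0)) _ a8 a9 with h | h <;> rw [h] at a7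
  · refine Or.inl (Equiv.ext fun x => ?_)
    rcases b x with rfl | rfl | rfl | rfl | rfl | rfl | rfl | rfl | rfl <;> assumption
  · refine Or.inr (Equiv.ext fun x => ?_)
    rcases b x with rfl | rfl | rfl | rfl | rfl | rfl | rfl | rfl | rfl <;> assumption

theorem good_nine {e : ZMod 3 × ZMod 3 ≃ Ω} (h : Co e V) : Good (al (normalizer (V : Set (Perm Ω)))) := by
  have h9 : Fintype.card Ω = 9 := by rw [← Fintype.card_congr e]; rfl
  obtain ⟨σ, s1, s2⟩ := exists_lin h φ₁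
  obtain ⟨τ, t1, t2⟩ := exists_lin h φ₂
  let a : alternatingGroup Ω := ⟨τ * τ * (σ * σ), mul_mem (sq_mem τ) (sq_mem σ)⟩
  have ha : ∀ x, a.1 (e x) = e (ψ x) := fun x => by
    change τ (τ (σ (σ (e x)))) = _
    rw [s2, s2, t2, t2]
    exact congrArg e ((by decide : ∀ x, φ₂ (φ₂ (φ₁ (φ₁ x))) = ψ x) x)
  have hc : ∀ c : centralizer ({a} : Set (alternatingGroup Ω)), ∀ x,
      e.symm.permCongr c.1.1 (ψ x) = ψ (e.symm.permCongr c.1.1 x) := fun c x => by
    apply e.injective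
    rw [← ha, permCongr_apply, permCongr_apply, symm_symm, e.apply_symm_apply, e.apply_symm_apply, ← ha]
    exact (congrArg (fun s : alternatingGroup Ω => s.1 (e x)) (c.2 a rfl)).symm
  refine good_of_cn (a := a) (mul_mem (mul_mem t1 t1) (mul_mem s1 s1)) (c := 6) ?_ ?_
  · rw [show 6 = Nat.card {x : ZMod 3 × ZMod 3 // ψ (ψ x) ≠ x} by rw [Nat.card_eq_fintype_card]; rfl]
    refine Nat.card_le_card_of_injective (fun c => ⟨e.symm.permCongr c.1.1 (0, 1), fun h1 => ?_⟩) fun c c' h1 => ?_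
    · rw [← hc, ← hc, Equiv.apply_eq_iff_eq] at h1
      exact absurd h1 (by decide)
    · have h2 : c.1.1 (e (0, 1)) = c'.1.1 (e (0, 1)) := e.symm.injective (congrArg Subtype.val h1)
      rw [← inv_mul_eq_one]
      rcases nine_cen _ (hc (c⁻¹ * c')) (by
        change e.symm (c.1.1⁻¹ (c'.1.1 (e (0, 1)))) = _
        rw [← h2, H427.piis, e.symm_apply_apply]) with h3 | h3
      · exact Subtype.ext (Subtype.ext (e.symm.permCongr.injective (h3.trans (by ext1 x; simp))))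
      · have h4 := sign_permCongr e.symm (c⁻¹ * c').1.1
        rw [h3, sign_swap (by decide), mem_alternatingGroup.1 (c⁻¹ * c').1.2] at h4
        exact absurd h4 (by decide)
  · have h1 : Nat.card (normalizer (V : Set (Perm Ω))) ≤ Nat.card (Ω × Ω × Ω) := by
      refine Nat.card_le_card_of_injective (fun c => (c.1 (e 0), c.1 (e (1, 0)), c.1 (e (0, 1)))) fun c c' h1 => ?_
      rw [← inv_mul_eq_one]
      have key : ∀ x, c.1 (e x) = c'.1 (e x) → (c⁻¹ * c').1 (e x) = e x := fun x hx => by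
        change c.1⁻¹ (c'.1 (e x)) = _
        rw [← hx, H427.piis]
      have a0 := key _ (congrArg (·.1) h1)
      have a1 := key _ (congrArg (·.2.1) h1)
      have a2 := key _ (congrArg (·.2.2) h1)
      have f := fun k x => fix_add h (c⁻¹ * c').2 a0 (k := k) (x := x)
      have a3 := f _ _ a1 a1
      have a4 := f _ _ a2 a2
      refine Subtype.ext (ext_e (e := e) fun x => ?_)
      rcases (by decide : ∀ x : ZMod 3 × ZMod 3, x = 0 ∨ x = (1, 0) ∨ x = (0, 1) ∨ x = (1, 0) + (1, 0) ∨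
        x = (0, 1) + (0, 1) ∨ x = (1, 0) + (0, 1) ∨ x = (1, 0) + ((0, 1) + (0, 1)) ∨ x = (1, 0) + (1, 0) + (0, 1) ∨
        x = (1, 0) + (1, 0) + ((0, 1) + (0, 1))) x with rfl | rfl | rfl | rfl | rfl | rfl | rfl | rfl | rfl
      exacts [a0, a1, a2, a3, a4, f _ _ a1 a2, f _ _ a1 a4, f _ _ a3 a2, f _ _ a3 a4]
    have h2 := card_alt (Ω := Ω) (by omega)
    have h3 := card_al_le (normalizer (V : Set (Perm Ω)))
    rw [Nat.card_prod, Nat.card_prod, Nat.card_eq_fintype_card (α := Ω), h9] at h1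
    rw [h9, show Nat.factorial 9 = 362880 from rfl] at h2
    omega

end Aff

open Aff in
/-- **[Aff]** -/
theorem boxAff : BoxAff := by
  intro Ω _ _ V p hp h1 hc hN
  have : Fact p.Prime := ⟨hp⟩
  have h7 := hN.card
  obtain ⟨ω⟩ : Nonempty Ω := Fintype.card_pos_iff.1 (by omega)
  obtain ⟨d, hd, hK⟩ := exists_coord hp h1 hc hN.tr ω
  have hn : Fintype.card Ω = p ^ d := by
    rw [← hd, ← Nat.card_eq_fintype_card]
    exact (Nat.card_eq_of_bijective _ (bij hc hN.tr ω)).symm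
  obtain rfl | rfl | h2 : d = 0 ∨ d = 1 ∨ 2 ≤ d := by omega
  · rw [pow_zero] at hn
    omega
  · exact good_prime hp (by rw [hd, pow_one]) (by rw [hn, pow_one]) hN.even
  obtain ⟨e, he⟩ := hK (GaloisField p d) (GaloisField.card p d (by omega))
  by_cases h25 : 25 ≤ Fintype.card Ω
  · exact good_big he hN.toPr h25
  have h5 : p < 5 := by
    by_contra h5
    exact h25 (hn ▸ (Nat.pow_le_pow_left (not_lt.1 h5) 2).trans (Nat.pow_le_pow_right hp.pos h2))
  obtain rfl | rfl : p = 2 ∨ p = 3 := by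
    have := hp.two_le
    have : p ≠ 4 := fun h => absurd (h ▸ hp) (by decide)
    omega
  · by_cases h3 : d ≤ 3
    · refine good_eight he hN.toPr ?_
      obtain rfl | rfl : d = 2 ∨ d = 3 := by omega
      · omega
      · exact hn
    · have h16 : 16 ≤ Fintype.card Ω := hn ▸ Nat.pow_le_pow_right (n := 2) (i := 4) two_pos (by omega)
      obtain ⟨u, -, -, a, ha, -, h4⟩ := exists_two he (by omega)
      exact good_of_cn ha h4 (fin_le hN.toPr (le_trans
        (Nat.mul_le_mul_left 2 (Nat.pow_le_pow_left (by omega) 3)) (num3 _ (by omega))))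
  · obtain rfl : d = 2 := by
      by_contra h3
      exact h25 (hn ▸ le_trans (by norm_num) (Nat.pow_le_pow_right (n := 3) (i := 3) (by norm_num) (by omega)))
    obtain ⟨e', he'⟩ := hK (ZMod 3 × ZMod 3) (by rw [Nat.card_prod, Nat.card_zmod]; rfl)
    exact good_nine he'

end Cfsg.Agent.N2.Alt
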