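import Cfsg.Agent.N2.Alt.Defs

/-!
# N2 (S3519), box Imp: the stabiliser of a partition (helper42)

The element acts as a long cycle on the union of all blocks but one.
-/

set_option autoImplicit false
set_option linter.unusedSectionVars false

namespace Cfsg.Agent.N2.Alt

open Equiv Equiv.Perm MulAction Subgroup Cfsg.Agent.FP3 Cfsg.Agent.TH.Alt

namespace Im

variable {B G ι : Type} [Fintype B] [DecidableEq B] [CommGroup G] [Fintype G] [DecidableEq G]

/-- `c` on `B` and the multiplication by `γ` on `G` -/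
def el (c : Perm B) (γ : G) : Perm (B ⊕ G) := Perm.sumCongr c (Equiv.mulLeft γ)

theorem el_pow_inl (c : Perm B) (γ : G) (n : ℕ) (x : B) : (el c γ ^ n) (Sum.inl x) = Sum.inl ((c ^ n) x) := by
  induction n with
  | zero => rfl
  | succ n ih => rw [pow_succ', pow_succ', mul_apply, ih]; rfl

theorem el_pow_inr (c : Perm B) (γ : G) (n : ℕ) (v : G) : (el c γ ^ n) (Sum.inr v) = Sum.inr (γ ^ n * v) := by
  induction n with
  | zero => simp
  | succ n ih => rw [pow_succ', pow_succ', mul_apply, ih, mul_assoc]; rfl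

/-- the invariant partition is unique -/
theorem uniq {γ : G} (hγ : ∀ x, x ∈ Submonoid.powers γ) {c : Perm B} {x0 : B} {j k : ℕ} (hj : (c ^ j) x0 = x0)
    (hB : Nat.card B = k) (hk : k ≤ orderOf (γ ^ j)) (hG : k ∣ Nat.card G) {h : B ⊕ G → ι}
    (hc : ∀ x, Nat.card {y // h y = h x} = k) (hi : el c γ ∈ Par h) :
    (∀ x, h (Sum.inl x) = h (Sum.inl x0)) ∧ (∀ v, h (Sum.inr v) ≠ h (Sum.inl x0)) ∧
      ∀ u v, h (Sum.inr u) = h (Sum.inr v) ↔ (u⁻¹ * v) ^ k = 1 := by
  have hp : ∀ n x y, h ((el c γ ^ n) x) = h ((el c γ ^ n) y) ↔ h x = h y := fun n => (Par h).pow_mem hi n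
  have h1 : ∀ v, h (Sum.inr v) ≠ h (Sum.inl x0) := fun v hv => by
    have h2 : ∀ w ∈ zpowers (γ ^ j), h (Sum.inr (w * v)) = h (Sum.inl x0) := fun w hw => by
      obtain ⟨i, rfl⟩ := (mem_powers_iff_mem_zpowers.2 hw)
      have h3 := (hp (j * i) _ _).2 hv
      rwa [el_pow_inr, el_pow_inl, pow_mul, pow_mul, pow_apply_eq_self_of_apply_eq_self hj] at h3
    have h3 := Nat.card_le_card_of_injective (α := Option (zpowers (γ ^ j))) (β := {y // h y = h (Sum.inl x0)})
      (fun o => o.elim ⟨_, rfl⟩ fun w => ⟨_, h2 w.1 w.2⟩) (by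
        rintro (_ | a) (_ | b) e
        · rfl
        · simp at e
        · simp at e
        · simpa using e)
    rw [hc, Finite.card_option, Nat.card_zpowers] at h3
    omega
  have h2 : ∀ x, h (Sum.inl x) = h (Sum.inl x0) := by
    have h3 : Function.Bijective fun y : {x // h (Sum.inl x) = h (Sum.inl x0)} =>
        (⟨Sum.inl y.1, y.2⟩ : {y // h y = h (Sum.inl x0)}) := by
      refine ⟨fun a b e => Subtype.ext (by simpa using e), ?_⟩
      rintro ⟨x | v, hx⟩
      · exact ⟨⟨x, hx⟩, rfl⟩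
      · exact absurd hx (h1 v)
    have h4 := (Nat.bijective_iff_injective_and_card (Subtype.val : {x // h (Sum.inl x) = h (Sum.inl x0)} → B)).2
      ⟨Subtype.val_injective, by rw [Nat.card_eq_of_bijective _ h3, hc, hB]⟩
    intro x
    obtain ⟨y, rfl⟩ := h4.2 x
    exact y.2
  have h3 : ∀ w u v, h (Sum.inr (w * u)) = h (Sum.inr (w * v)) ↔ h (Sum.inr u) = h (Sum.inr v) := fun w u v => by
    obtain ⟨n, rfl⟩ := hγ w
    rw [← hp n (Sum.inr u), el_pow_inr, el_pow_inr]
  let K : Subgroup G :=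
    { carrier := {w | h (Sum.inr w) = h (Sum.inr 1)}
      mul_mem' := fun {a b} ha hb => ((h3 a b 1).2 hb).trans (by rw [mul_one]; exact ha)
      one_mem' := rfl
      inv_mem' := fun {a} ha => by
        have := (h3 a⁻¹ a 1).2 ha
        rw [inv_mul_cancel, mul_one] at this
        exact this.symm }
  have h4 : Nat.card K = k := by
    rw [← hc (Sum.inr 1)]
    refine Nat.card_eq_of_bijective (fun w => ⟨Sum.inr w.1, w.2⟩) ⟨fun a b e => Subtype.ext (by simpa using e), ?_⟩
    rintro ⟨x | v, hx⟩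
    · exact absurd (hx.symm.trans (h2 x)) (h1 1)
    · exact ⟨⟨v, hx⟩, rfl⟩
  have : IsCyclic G := ⟨⟨γ, fun x => mem_powers_iff_mem_zpowers.1 (hγ x)⟩⟩
  have h5 : K = (powMonoidHom k : G →* G).ker := eq_of_le_of_card_ge (fun w hw => by
    have := pow_card_eq_one' (x := (⟨w, hw⟩ : K))
    rw [h4] at this
    exact congrArg Subtype.val this) (by rw [IsCyclic.card_powMonoidHom_ker, h4]; exact Nat.gcd_le_right _ (h4 ▸ Nat.card_pos))
  refine ⟨h2, h1, fun u v => ?_⟩
  rw [← h3 u⁻¹, inv_mul_cancel, eq_comm]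
  exact (SetLike.ext_iff.1 h5 (u⁻¹ * v))

theorem uniq' {γ : G} (hγ : ∀ x, x ∈ Submonoid.powers γ) {c : Perm B} {x0 : B} {j k : ℕ} (hj : (c ^ j) x0 = x0)
    (hB : Nat.card B = k) (hk : k ≤ orderOf (γ ^ j)) (hG : k ∣ Nat.card G) {h h' : B ⊕ G → ι}
    (hc : ∀ x, Nat.card {y // h y = h x} = k) (hi : el c γ ∈ Par h)
    (hc' : ∀ x, Nat.card {y // h' y = h' x} = k) (hi' : el c γ ∈ Par h') (x y : B ⊕ G) : h x = h y ↔ h' x = h' y := by
  obtain ⟨h1, h2, h3⟩ := uniq hγ hj hB hk hG hc hi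
  obtain ⟨h4, h5, h6⟩ := uniq hγ hj hB hk hG hc' hi'
  rcases x with x | u <;> rcases y with y | v
  · exact iff_of_true ((h1 x).trans (h1 y).symm) ((h4 x).trans (h4 y).symm)
  · rw [h1, h4]
    exact iff_of_false (h2 v).symm (h5 v).symm
  · rw [h1, h4]
    exact iff_of_false (h2 u) (h5 u)
  · rw [h3, h6]

/-- the model of the partition -/
def col (K : Subgroup G) : B ⊕ G → Option (G ⧸ K) := Sum.elim (fun _ => none) fun v => some v

theorem el_mem (K : Subgroup G) (c : Perm B) (γ : G) : el c γ ∈ Par (col (B := B) K) := by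
  rintro (x | u) (y | v)
  · exact Iff.rfl
  · exact iff_of_false (fun h => by cases h) fun h => by cases h
  · exact iff_of_false (fun h => by cases h) fun h => by cases h
  · change some ((γ * u : G) : G ⧸ K) = some ((γ * v : G) : G ⧸ K) ↔ some (u : G ⧸ K) = some (v : G ⧸ K)
    rw [Option.some_inj, Option.some_inj, QuotientGroup.eq, QuotientGroup.eq]
    simp [mul_assoc]

theorem card_col (K : Subgroup G) (h : Nat.card B = Nat.card K) (i : Option (G ⧸ K)) :
    Nat.card {y : B ⊕ G // col K y = i} = Nat.card K := by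
  rcases i with _ | q
  · rw [← h]
    refine (Nat.card_eq_of_bijective (fun x => ⟨Sum.inl x, rfl⟩) ⟨fun a b e => Sum.inl.inj (congrArg Subtype.val e), ?_⟩).symm
    rintro ⟨x | v, hx⟩
    · exact ⟨x, rfl⟩
    · cases hx
  · have h1 := card_pre K fun x => x = q
    rw [Nat.card_unique (α := {x // x = q}), one_mul] at h1
    rw [← h1]
    refine (Nat.card_eq_of_bijective (fun x => ⟨Sum.inr x.1, congrArg some x.2⟩)
      ⟨fun a b e => Subtype.ext (Sum.inr.inj (congrArg Subtype.val e)), ?_⟩).symm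
    rintro ⟨x | v, hx⟩
    · cases hx
    · exact ⟨⟨v, Option.some.inj hx⟩, rfl⟩

variable {Ω : Type} [Fintype Ω] [DecidableEq Ω]

theorem good {f : Ω → ι} {k : ℕ} (hf : ∀ i, Nat.card {a // f a = i} = k) (e : Ω ≃ B ⊕ G) {γ : G} (hγ : ∀ x, x ∈ Submonoid.powers γ)
    {c : Perm B} {x0 : B} {j : ℕ} (hj : (c ^ j) x0 = x0) (hB : Nat.card B = k) (hk : k ≤ orderOf (γ ^ j))
    (hG : k ∣ Nat.card G) (hs : sign (el c γ) = 1) (hi : el c γ ∈ Par (f ∘ e.symm)) : Good (al (Par f)) := by
  have hc : ∀ (t : Perm Ω) (x : B ⊕ G), Nat.card {y // (f ∘ t ∘ e.symm) y = (f ∘ t ∘ e.symm) x} = k := fun t x => by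
    rw [← hf ((f ∘ t ∘ e.symm) x)]
    exact Nat.card_congr ((e.symm.trans t).subtypeEquiv fun y => Iff.rfl)
  refine good_of_one (a := ⟨e.symm.permCongr (el c γ), by rw [mem_alternatingGroup, sign_permCongr, hs]⟩)
    (fun x y => by simpa using hi (e x) (e y)) (fx_le_one fun t ht => ?_)
  have h1 := uniq' hγ hj hB hk hG (hc t.1⁻¹) (fun x y => by
    have := ht (t.1⁻¹ (e.symm x)) (t.1⁻¹ (e.symm y))
    simpa using this) (hc 1) hi
  refine (Par f).inv_mem_iff.1 fun x y => ?_
  simpa using h1 (e x) (e y)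

end Im

theorem boxImp : BoxImp := by
  intro Ω _ _ b k f h7 hb hk hf
  obtain ⟨c, rfl⟩ : ∃ c, b = c + 1 := ⟨b - 1, by omega⟩
  have hn := card_fib f k hf
  rw [Nat.card_eq_fintype_card, Nat.card_eq_fintype_card, Fintype.card_fin] at hn
  have hpos : 0 < k * c := Nat.mul_pos (by omega) (by omega)
  have : NeZero (k * c) := ⟨hpos.ne'⟩
  let G := Multiplicative (ZMod (k * c))
  have hG : Nat.card G = k * c := by simp [G]
  obtain ⟨γ, hγ⟩ := IsCyclic.exists_monoid_generator (α := G)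
  have ho : orderOf γ = k * c := (orderOf_eq_card_of_forall_mem_powers hγ).trans hG
  let K := (powMonoidHom k : G →* G).ker
  have hK : Nat.card K = k := by rw [IsCyclic.card_powMonoidHom_ker, hG, Nat.gcd_mul_right_left]
  have hQ : Nat.card (Option (G ⧸ K)) = c + 1 := by
    have h1 := K.index_mul_card
    rw [hK, hG, mul_comm] at h1
    rw [Finite.card_option, ← index_eq_card, Nat.eq_of_mul_eq_mul_left (by omega) h1]
  let ε := Finite.equivFinOfCardEq hQ
  have hB : Nat.card (Fin k) = k := by simp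
  have h1 : ∀ i, Nonempty ({a // f a = i} ≃ {y : Fin k ⊕ G // (ε ∘ Im.col K) y = i}) := fun i => by
    rw [← Finite.card_eq, hf]
    exact (hK.symm.trans (Im.card_col (B := Fin k) K (hB.trans hK.symm) (ε.symm i)).symm).trans
      (Nat.card_congr (Equiv.subtypeEquivRight fun y => ε.eq_symm_apply))
  let e := Equiv.ofFiberEquiv fun i => (h1 i).some
  have h2 : f ∘ e.symm = ε ∘ Im.col K := funext fun y => by
    have := Equiv.ofFiberEquiv_map (fun i => (h1 i).some) (e.symm y)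
    rw [Function.comp_apply, ← this]
    exact congrArg _ (e.apply_symm_apply y)
  have h3 : ∀ s : Perm (Fin k), Im.el s γ ∈ Par (f ∘ e.symm) := fun s x y => by
    rw [h2]
    simpa using Im.el_mem K s γ x y
  have h4 : ∀ x0 x y : Fin k, ∀ j, x ≠ y → (swap x y ^ j) x0 = x0 → k ≤ orderOf (γ ^ j) → Good (al (Par f)) := by
    intro x0 x y j h5 h6 h8
    rcases Int.units_eq_one_or (sign (Equiv.mulLeft γ)) with h9 | h9
    · exact Im.good hf e hγ (c := 1) (x0 := x0) (by simp) hB h8 (hG ▸ dvd_mul_right k c)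
        (by rw [Im.el, sign_sumCongr, h9]; simp) (h3 _)
    · exact Im.good hf e hγ h6 hB h8 (hG ▸ dvd_mul_right k c) (by rw [Im.el, sign_sumCongr, h9, sign_swap h5]; simp) (h3 _)
  rcases hk.eq_or_lt with rfl | h5
  · refine h4 0 0 1 2 (by decide) (by decide) ?_
    rw [orderOf_pow' _ two_ne_zero, ho, Nat.gcd_mul_right_left, Nat.mul_div_cancel_left _ two_pos]
    omega
  · refine h4 ⟨0, by omega⟩ ⟨1, by omega⟩ ⟨2, h5⟩ 1 (by simp) (by
      rw [pow_one]
      exact swap_apply_of_ne_of_ne (by simp) (by simp)) ?_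
    rw [pow_one, ho]
    exact Nat.le_mul_of_pos_right _ (by omega)

end Cfsg.Agent.N2.Alt
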