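import Cfsg.Agent.N2.Alt.Intr
import Cfsg.Agent.N2.Alt.Imp
import Cfsg.Agent.N2.Alt.Aff
import Cfsg.Agent.N2.L2.Main
import Cfsg.Agent.S2119
import Cfsg.Agent.S0253
import Cfsg.Agent.S0254

/-!
# N2 (S3519): the row of the alternating groups from the box `NA` (helper42)
-/

set_option autoImplicit false
set_option linter.unusedSectionVars false

namespace Cfsg.Agent.N2.Alt

open Equiv Equiv.Perm MulAction Subgroup Cfsg.Agent.FP3 Cfsg.Agent.TH.Alt
open scoped Pointwise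

namespace Fr

variable {Ω ι : Type} [Fintype Ω] [DecidableEq Ω]

theorem not_le_Par (h4 : 4 ≤ Fintype.card Ω) {f : Ω → ι} {x x' y : Ω} (h1 : x' ≠ x) (h2 : f x' = f x) (h3 : f y ≠ f x) :
    ¬ alternatingGroup Ω ≤ Par f := by
  obtain ⟨w, hw⟩ : ∃ w, w ∉ ({x, x', y} : Finset Ω) := by
    by_contra h
    push Not at h
    have h5 := Finset.card_le_card (fun w _ => h w : Finset.univ ⊆ ({x, x', y} : Finset Ω))
    have h6 := Finset.card_le_three (a := x) (b := x') (c := y)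
    rw [Finset.card_univ] at h5
    omega
  simp only [Finset.mem_insert, Finset.mem_singleton, not_or] at hw
  have hy : y ≠ x' := fun h => h3 (h ▸ h2)
  have hy' : y ≠ x := fun h => h3 (h ▸ rfl)
  intro h
  have h5 := (h (x := swap x' w * swap x' y) (by
    rw [mem_alternatingGroup, map_mul, sign_swap (Ne.symm hw.2.1), sign_swap hy.symm]
    simp) x' x).2 h2
  rw [mul_apply, mul_apply, swap_apply_left, swap_apply_of_ne_of_ne hy (Ne.symm hw.2.2), swap_apply_of_ne_of_ne h1.symm hy'.symm,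
    swap_apply_of_ne_of_ne h1.symm (Ne.symm hw.1)] at h5
  exact h3 h5

theorem not_le_fib (h4 : 4 ≤ Fintype.card Ω) {b k : ℕ} {f : Ω → Fin b} (hb : 2 ≤ b) (hk : 2 ≤ k)
    (hf : ∀ i, Nat.card {a // f a = i} = k) : ¬ alternatingGroup Ω ≤ Par f := by
  obtain ⟨x, x', h1⟩ := (Finite.one_lt_card_iff_nontrivial.1 (hf ⟨0, by omega⟩ ▸ hk)).exists_pair_ne
  obtain ⟨y⟩ := (Nat.card_pos_iff.1 (hf ⟨1, hb⟩ ▸ (by omega : 0 < k))).1
  exact not_le_Par h4 (x := x'.1) (x' := x.1) (y := y.1) (fun h => h1 (Subtype.ext h)) (x.2.trans x'.2.symm)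
    (by rw [y.2, x'.2]; simp)

/-- a transitive imprimitive group preserves a partition -/
theorem exists_Par {H : Subgroup (Perm Ω)} [IsPretransitive H Ω] (h : ¬ IsPreprimitive H Ω) :
    ∃ (b k : ℕ) (f : Ω → Fin b), 2 ≤ b ∧ 2 ≤ k ∧ (∀ i, Nat.card {a // f a = i} = k) ∧ H ≤ Par f := by
  obtain ⟨B, hB, h3⟩ : ∃ B : Set Ω, IsBlock H B ∧ ¬ IsTrivialBlock B := by
    by_contra h3
    push Not at h3
    exact h ⟨fun hB => h3 _ hB⟩
  rw [IsTrivialBlock, not_or, Set.not_subsingleton_iff] at h3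
  have h0 := h3.1.nonempty
  have h1 := (hB.isBlockSystem h0).1.2
  choose g hg hg' using h1
  let g' : Ω → orbit H B := fun x => ⟨g x, (hg x).1⟩
  have h2 : ∀ (x : Ω) (C : orbit H B), g' x = C ↔ x ∈ C.1 := fun x C =>
    ⟨fun h => h ▸ (hg x).2, fun h => Subtype.ext (hg' x C.1 ⟨C.2, h⟩).symm⟩
  let ε := Finite.equivFin (orbit H B)
  have h4 := hB.ncard_block_mul_ncard_orbit_eq h0
  have h5 : B.ncard < Nat.card Ω := by
    rw [← Set.ncard_univ]
    exact Set.ncard_lt_ncard (Set.ssubset_univ_iff.2 h3.2)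
  refine ⟨_, B.ncard, ε ∘ g', ?_, Set.one_lt_ncard_iff_nontrivial.2 h3.1, fun i => ?_, fun σ hσ x y => ?_⟩
  · rw [Nat.card_coe_set_eq]
    by_contra h6
    have := Nat.mul_le_mul_left B.ncard (by omega : (orbit H B).ncard ≤ 1)
    omega
  · obtain ⟨t, ht⟩ := (ε.symm i).2
    rw [← Set.ncard_smul_set t B, ← Nat.card_coe_set_eq]
    refine Nat.card_congr (Equiv.subtypeEquivRight fun x => ?_)
    rw [Function.comp_apply, ← ε.eq_symm_apply, h2, ← ht]
  · have h6 : ∀ z, g' (σ z) = (⟨σ, hσ⟩ : H) • g' z := fun z =>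
      (h2 _ _).2 (Set.smul_mem_smul_set (a := (⟨σ, hσ⟩ : H)) (hg z).2)
    simp only [Function.comp_apply, ε.apply_eq_iff_eq, h6, smul_left_cancel_iff]

theorem exists_min {G : Type*} [Group G] [Finite G] (C : Subgroup G) [C.Normal] (hC : C ≠ ⊥) :
    ∃ M : Subgroup G, M.Normal ∧ M ≤ C ∧ M ≠ ⊥ ∧ ∀ M' : Subgroup G, M'.Normal → M' ≤ M → M' = ⊥ ∨ M' = M := by
  have hfin : {M : Subgroup G | M.Normal ∧ M ≤ C ∧ M ≠ ⊥}.Finite := Set.toFinite _
  obtain ⟨M, ⟨h1, h2, h3⟩, h4⟩ := hfin.exists_minimal ⟨C, inferInstance, le_rfl, hC⟩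
  refine ⟨M, h1, h2, h3, fun M' hM' hle => ?_⟩
  by_cases h : M' = ⊥
  · exact Or.inl h
  · exact Or.inr (le_antisymm hle (h4 ⟨hM', hle.trans h2, h⟩ hle))

/-- an abelian minimal normal subgroup is elementary abelian -/
theorem exists_exp {G : Type*} [Group G] [Finite G] {N : Subgroup G} [hN : N.Normal] (h0 : N ≠ ⊥)
    (hm : ∀ M : Subgroup G, M.Normal → M ≤ N → M = ⊥ ∨ M = N) (hc : ∀ x ∈ N, ∀ y ∈ N, Commute x y) :
    ∃ p : ℕ, p.Prime ∧ ∀ x ∈ N, x ^ p = 1 := by
  obtain ⟨p, hp, h1⟩ := Nat.exists_prime_and_dvd (fun h => h0 (card_eq_one.1 h))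
  have : Fact p.Prime := ⟨hp⟩
  obtain ⟨z, hz⟩ := exists_prime_orderOf_dvd_card' p h1
  let M : Subgroup G :=
    { carrier := {x | x ∈ N ∧ x ^ p = 1}
      mul_mem' := fun {a b} ha hb => ⟨N.mul_mem ha.1 hb.1, by rw [(hc a ha.1 b hb.1).mul_pow, ha.2, hb.2, one_mul]⟩
      one_mem' := ⟨N.one_mem, one_pow p⟩
      inv_mem' := fun {a} ha => ⟨N.inv_mem ha.1, by rw [inv_pow, ha.2, inv_one]⟩ }
  rcases hm M ⟨fun a ha g => ⟨hN.conj_mem a ha.1 g, by rw [conj_pow, ha.2]; simp⟩⟩ (fun a ha => ha.1) with h | h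
  · have h2 : z.1 ∈ M := ⟨z.2, by rw [← hz, ← Subgroup.coe_pow, pow_orderOf_eq_one]; rfl⟩
    rw [h, mem_bot, OneMemClass.coe_eq_one] at h2
    exact absurd (by rw [← hz, h2, orderOf_one]) hp.ne_one
  · exact ⟨p, hp, fun x hx => (h.ge hx).2⟩

theorem prim_mono {H K : Subgroup (Perm Ω)} (h : H ≤ K) (hp : IsPreprimitive H Ω) : IsPreprimitive K Ω :=
  IsPreprimitive.of_surjective (M := H) (N := K) (φ := inclusion h) (f := ⟨id, fun _ _ => rfl⟩) Function.surjective_id

/-- the maximal subgroups of the symmetric and the alternating group -/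
theorem good_of_max (hNA : BoxNA) (h7 : 7 ≤ Fintype.card Ω) {H : Subgroup (Perm Ω)} (hA : ¬ alternatingGroup Ω ≤ H)
    (h0 : al H ≠ ⊥) (hmax : ∀ K, H ≤ K → ¬ alternatingGroup Ω ≤ K → al K = al H) : Good (al H) := by
  have imp : ∀ (b k : ℕ) (f : Ω → Fin b), 2 ≤ b → 2 ≤ k → (∀ i, Nat.card {a // f a = i} = k) → H ≤ Par f → Good (al H) :=
    fun b k f h1 h2 h3 h4 => hmax _ h4 (not_le_fib (by omega) h1 h2 h3) ▸ boxImp Ω b k f h7 h1 h2 h3
  by_cases h1 : IsPretransitive H Ω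
  swap
  · obtain ⟨O, h2, h3, h4⟩ := TH.Sim.Al.exists_SW h1
    have hc := Finset.card_add_card_compl O
    rcases h3.eq_or_lt with h5 | h5
    · refine imp 2 O.card (fun a => if a ∈ O then 0 else 1) le_rfl (by omega) (fun i => ?_) fun σ hσ x y => ?_
      · have h6 : ∀ S : Finset Ω, S.card = Nat.card S := fun S => by simp
        obtain rfl | rfl : i = 0 ∨ i = 1 := by omega
        · rw [h6]
          exact Nat.card_congr (Equiv.subtypeEquivRight fun x => by simp)
        · rw [show O.card = Oᶜ.card by omega, h6]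
          exact Nat.card_congr (Equiv.subtypeEquivRight fun x => by simp)
      · simp only [h4 hσ x, h4 hσ y]
    · refine hmax _ h4 (fun h6 => ?_) ▸ boxIntr Ω O h7 h2 h5
      have h8 := index_SW (Γ := alternatingGroup Ω) le_rfl (by omega) O
      rw [subgroupOf_eq_top.2 h6, index_top, eq_comm, Nat.choose_eq_one_iff] at h8
      omega
  by_cases h2 : IsPreprimitive H Ω
  swap
  · obtain ⟨b, k, f, h3, h4, h5, h6⟩ := exists_Par h2
    exact imp b k f h3 h4 h5 h6
  obtain ⟨N, hN, h3, h4, h5⟩ := exists_min ((alternatingGroup Ω).subgroupOf H) fun h => h0 (by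
    rw [eq_bot_iff] at h ⊢
    intro a ha
    have h3 : (⟨a.1, ha⟩ : H) = 1 := mem_bot.1 (h (x := ⟨a.1, ha⟩) a.2)
    exact mem_bot.2 (Subtype.ext (congrArg (fun z : H => z.1) h3)))
  have h6 : IsPretransitive N Ω := IsQuasiPreprimitive.isPretransitive_of_normal (G := H) fun h => h4 (by
    rw [eq_bot_iff]
    intro a ha
    exact mem_bot.2 (Subtype.ext (Equiv.ext fun x => (h.ge (Set.mem_univ x)) ⟨a, ha⟩)))
  have h8 : NF H (N.map H.subtype) :=
    { card := h7
      prim := h2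
      nle := hA
      le := map_subtype_le N
      even := by
        rintro _ ⟨a, ha, rfl⟩
        exact h3 ha
      tr := ⟨fun x y => by
        obtain ⟨g, hg⟩ := exists_smul_eq N x y
        exact ⟨⟨g.1.1, g.1, g.2, rfl⟩, hg⟩⟩ }
  by_cases h9 : ∀ x ∈ N, ∀ y ∈ N, Commute x y
  swap
  · exact hNA Ω H N h8 h5 h9
  obtain ⟨p, hp, h10⟩ := exists_exp h4 h5 h9
  have h11 : H ≤ normalizer (N.map H.subtype : Set (Perm Ω)) := by
    have := le_normalizer_map (H := N) H.subtype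
    rwa [normalizer_eq_top, ← MonoidHom.range_eq_map, range_subtype] at this
  have h12 : ∀ v ∈ N.map H.subtype, ∀ w ∈ N.map H.subtype, v * w = w * v := by
    rintro _ ⟨a, ha, rfl⟩ _ ⟨b, hb, rfl⟩
    exact congrArg Subtype.val (h9 a ha b hb).eq
  have h13 : ¬ alternatingGroup Ω ≤ normalizer (N.map H.subtype : Set (Perm Ω)) := fun h => by
    have hs : IsSimpleGroup (alternatingGroup Ω) := alternatingGroup.isSimpleGroup (by simp; omega)
    rcases ((normal_subgroupOf_iff_le_normalizer h8.even).2 h).eq_bot_or_eq_top with h14 | h14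
    · rw [subgroupOf_eq_bot, disjoint_iff, inf_eq_left.2 h8.even, map_eq_bot_iff_of_injective _ H.subtype_injective] at h14
      exact h4 h14
    · exact hA ((subgroupOf_eq_top.1 h14).trans h8.le)
  refine hmax _ h11 h13 ▸ boxAff Ω _ p hp ?_ h12
    { card := h7
      prim := prim_mono h11 h2
      nle := h13
      le := le_normalizer
      even := h8.even
      tr := h8.tr }
  rintro _ ⟨a, ha, rfl⟩
  exact congrArg Subtype.val (h10 a ha)

theorem as_big (hNA : BoxNA) {n : ℕ} (h7 : 7 ≤ n) : ASRow (alternatingGroup (Fin n)) := by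
  intro A Γ h
  have hb := S2119.result n (by omega) (by omega)
  let H : Subgroup (Perm (Fin n)) := Γ.comap MulAut.conjNormal
  have h1 : al H = A := by
    ext a
    rw [← h.conj a]
    exact iff_of_eq (congrArg (· ∈ Γ) (MulAut.conjNormal_val (h := a)))
  rw [← h1]
  refine good_of_max hNA (by simpa using h7) (fun h2 => h.ne_top (h1 ▸ subgroupOf_eq_top.2 h2)) (h1 ▸ h.ne_bot)
    fun K h2 h3 => ?_
  rcases h.max (al K) (h1 ▸ fun a ha => h2 ha) (fun σ hσ b hb' => by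
    obtain ⟨t, rfl⟩ := hb.2 σ
    exact K.mul_mem (K.mul_mem (h2 hσ) hb') (K.inv_mem (h2 hσ))) with h4 | h4
  · exact h4.trans h1.symm
  · exact absurd (subgroupOf_eq_top.1 h4) h3

end Fr

/-- **the row of the alternating groups** from the box `NA` -/
theorem as_alt_of (hNA : BoxNA) {T : Type*} [Group T] (h : IsAlternating T) : ASRow T := by
  obtain ⟨n, hn, ⟨e⟩⟩ := h
  refine asRow_congr e.symm ?_
  obtain rfl | rfl | h7 : n = 5 ∨ n = 6 ∨ 7 ≤ n := by omega
  · have : Fact (Nat.Prime 5) := ⟨by norm_num⟩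
    obtain ⟨f⟩ := S0253.result (F := ZMod 5) (by simp)
    exact asRow_congr f (as_psl2 _ (by simp))
  · have : Fact (Nat.Prime 3) := ⟨by norm_num⟩
    have := Fintype.ofFinite (GaloisField 3 2)
    have h9 : Fintype.card (GaloisField 3 2) = 9 := by
      rw [← Nat.card_eq_fintype_card, GaloisField.card 3 2 (by norm_num)]
      norm_num
    obtain ⟨f⟩ := S0254.result h9
    exact asRow_congr f (as_psl2 _ (by omega))
  · exact Fr.as_big hNA h7

end Cfsg.Agent.N2.Alt
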