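import Cfsg.Agent.N2.Alt.Pel
import Cfsg.Agent.H436.Simple
import Cfsg.Agent.H436.PslTwo
import Cfsg.Agent.SP.Mon.NL.Out
import Cfsg.Agent.ClassicalGeometry.PSL2Basic

/-!
# N2 (S3519), alternating groups: the three kinds of simple groups (helper51)
-/

set_option autoImplicit false
set_option maxRecDepth 100000
set_option linter.unusedSectionVars false

namespace Cfsg.Agent.N2.Alt

open Cfsg.Agent.OrdDiv Cfsg.Agent.H436 Nat

/-- the simple `{2, 3, 5, 7}`-groups: name, order, a multiple of `|Out|` -/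
def L7 : List (Grp × ℕ × ℕ) :=
  [(.alt 5, 60, 2), (.alt 6, 360, 4), (.alt 7, 2520, 2), (.alt 8, 20160, 2), (.alt 9, 181440, 2), (.alt 10, 1814400, 2),
    (.psl 2 4, 60, 2), (.psl 2 5, 60, 2), (.psl 2 7, 168, 2), (.psl 2 8, 504, 3), (.psl 2 9, 360, 4),
    (.psl 2 49, 58800, 4), (.psl 3 2, 168, 2), (.psl 3 4, 20160, 12), (.psl 4 2, 20160, 2), (.psp 2 3, 25920, 2),
    (.psp 2 7, 138297600, 2), (.psp 3 2, 1451520, 1), (.psu 3 3, 6048, 2), (.psu 3 5, 126000, 6), (.psu 4 2, 25920, 2),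
    (.psu 4 3, 3265920, 8), (.oplus 4 2, 174182400, 6), (.j2, 604800, 2)]

/-- no prime divisor from a list -/
def sm (n : ℕ) : Bool := [11, 13, 17, 19, 31, 41, 43, 73].all fun p => n % p != 0

theorem sm_spec {n : ℕ} (h : ∀ p, p.Prime → p ∣ n → p < 11) : sm n = true := by
  unfold sm
  rw [List.all_eq_true]
  intro p hp
  rw [bne_iff_ne]
  intro h0
  have h1 := Nat.dvd_of_mod_eq_zero h0
  simp only [List.mem_cons, List.not_mem_nil, or_false] at hp
  rcases hp with rfl | rfl | rfl | rfl | rfl | rfl | rfl | rfl <;> exact absurd (h _ (by norm_num) h1) (by norm_num)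

theorem lt_eleven {p : ℕ} (hp : p.Prime) (h : p < 11) : p = 2 ∨ p = 3 ∨ p = 5 ∨ p = 7 := by
  interval_cases p <;> simp_all (config := { decide := true })

theorem psl_sm {q : ℕ} (hq : IsPrimePow q) (h4 : 4 ≤ q) (h : ∀ p, p.Prime → p ∣ q * (q ^ 2 - 1) → p < 11) :
    q ∈ [4, 5, 7, 8, 9, 49] := by
  have ht := sm_spec h
  obtain ⟨p, f, hp, hf, rfl⟩ := (isPrimePow_nat_iff q).1 hq
  have hpm := lt_eleven hp (h p hp ((dvd_pow_self p (by omega)).mul_right _))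
  have hf3 : f ≤ 3 := by
    by_contra hlt
    obtain ⟨r, hr1, hr2, hr3, hr4⟩ := Lib.Zsigmondy.exists_primitive (a := p) (n := 2 * f) hp.two_le
      (by omega) (by omega) (by omega)
    have hrm := lt_eleven hr1 (h r hr1 (Prim.dvd_mq ⟨hr1, hr2, hr4⟩ dvd_rfl))
    have h1 := Nat.le_of_dvd (by have := hr1.two_le; omega) hr3
    omega
  have hf' : f = 1 ∨ f = 2 ∨ f = 3 := by omega
  rcases hpm with rfl | rfl | rfl | rfl <;> rcases hf' with rfl | rfl | rfl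
  all_goals first | decide | exact absurd ht (by decide) | exact absurd h4 (by decide)

theorem L7_kfl : ∀ g ∈ KFL, sm (ordN g) = true → g ∈ L7.map Prod.fst := by decide +kernel

theorem L7_ok : ∀ e ∈ L7, ordN e.1 = e.2.1 ∧ SP.Mon.NL.okN e.1 = true ∧ SP.Mon.NL.outN e.1 = e.2.2 := by decide +kernel

variable {S : Type} [Group S] [Finite S] [IsSimpleGroup S]

/-- **simple groups without prime divisors `≥ 11`** -/
theorem smooth (hna : ¬ ∀ a b : S, a * b = b * a) (h : ∀ p, p.Prime → p ∣ Nat.card S → p < 11) :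
    ∃ e ∈ L7, Real e.1 S ∧ Nat.card S = e.2.1 ∧ Nat.card (MulAut S) ∣ e.2.2 * e.2.1 := by
  have hc : Nat.card S ≠ 0 := Nat.card_pos.ne'
  have hsub : (Nat.card S).primeFactors ⊆ {2, 3, 5, 7} := fun p hp => by
    have := lt_eleven (Nat.prime_of_mem_primeFactors hp) (h p (Nat.prime_of_mem_primeFactors hp)
      (Nat.dvd_of_mem_primeFactors hp))
    simpa using this
  obtain ⟨g, hg, h1⟩ := k_four_simple (G := S) (fun hc => hna fun a b => hc.is_comm.comm a b)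
    ((Finset.card_le_card hsub).trans (by decide))
  have h2 : g ∈ L7.map Prod.fst := by
    rcases h1 with ⟨q, rfl⟩ | ⟨q, rfl⟩ | h1
    · obtain ⟨-, h4, hq⟩ := hg.cond
      have hf := psl_two_factors hq.two_le hg.eq
      have h3 := psl_sm hq (h4 rfl) fun p hp hd => h p hp (Nat.dvd_of_mem_primeFactors
        (hf ▸ Nat.mem_primeFactors.2 ⟨hp, hd, mq_ne_zero hq.two_le⟩))
      simp only [List.mem_cons, List.not_mem_nil, or_false] at h3
      rcases h3 with rfl | rfl | rfl | rfl | rfl | rfl <;> decide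
    · exfalso
      obtain ⟨m, hm, rfl⟩ := hg.cond
      have h2 : 1 * Nat.card S = (2 ^ (2 * m + 1)) ^ 2 * ((2 ^ (2 * m + 1) - 1) * ((2 ^ (2 * m + 1)) ^ 2 + 1)) := hg.eq
      have h4 := Classification.ThreePrimes.four_le_suzuki (n := Nat.card S) hm hc
        ⟨1, by rw [mul_one, ← one_mul (Nat.card S), h2]; ring⟩
      have h3 : 3 ∣ Nat.card S := Nat.dvd_of_mem_primeFactors (by
        rw [Finset.eq_of_subset_of_card_le hsub (le_trans (by decide) h4)]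
        decide)
      rw [one_mul] at h2
      rw [h2] at h3
      have hq : 2 ^ (2 * m + 1) % 3 = 2 := by
        rw [pow_succ, pow_mul, Nat.mul_mod, Nat.pow_mod]
        norm_num
      obtain ⟨k, hk⟩ : ∃ k, 2 ^ (2 * m + 1) = 3 * k + 2 := ⟨2 ^ (2 * m + 1) / 3, by omega⟩
      rcases Nat.prime_three.dvd_mul.1 h3 with h4 | h4
      · have := (Nat.prime_dvd_prime_iff_eq Nat.prime_three Nat.prime_two).1
          (Nat.prime_three.dvd_of_dvd_pow (Nat.prime_three.dvd_of_dvd_pow h4))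
        omega
      · rcases Nat.prime_three.dvd_mul.1 h4 with h5 | h5
        · omega
        · rw [hk, show (3 * k + 2) ^ 2 + 1 = 3 * (3 * k ^ 2 + 4 * k + 1) + 2 by ring] at h5
          omega
    · exact L7_kfl g h1 (hg.ord ▸ sm_spec h)
  obtain ⟨e, he, rfl⟩ := List.mem_map.1 h2
  obtain ⟨k1, k2, k3⟩ := L7_ok e he
  exact ⟨e, he, hg.real, hg.ord.trans k1, k1 ▸ k3 ▸ SP.Mon.NL.aut_dvd hna k2 hg.real hg.ord⟩

theorem card_sl (k : ℕ) (hk : k ≠ 0) :
    Nat.card (Matrix.SpecialLinearGroup (Fin 2) (GaloisField 2 k)) = 2 ^ k * ((2 ^ k) ^ 2 - 1) := by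
  have := Fintype.ofFinite (GaloisField 2 k)
  rw [ClassicalGeometry.PSL2Basic.card_SL2, ← Nat.card_eq_fintype_card, GaloisField.card 2 k hk]

theorem not_NE {p : ℕ} (h : ¬ NE p S) : (∃ m, p + 1 < m ∧ m < p ^ 2 - p ∧ Nonempty (S ≃* alternatingGroup (Fin m))) ∨
    ∃ k, p + 1 = 2 ^ k ∧ (k ≠ 0 → Nat.card S = 2 ^ k * ((2 ^ k) ^ 2 - 1)) := by
  by_contra k
  refine h ⟨fun m h1 h2 h3 => k (Or.inl ⟨m, h1, h2, h3⟩), fun j h1 ⟨e⟩ => k (Or.inr ⟨j, h1, fun h2 => ?_⟩)⟩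
  rw [Nat.card_congr e.toEquiv, card_sl j h2]

theorem sl_mono {a b : ℕ} (h : a < b) : 2 ^ a * ((2 ^ a) ^ 2 - 1) < 2 ^ b * ((2 ^ b) ^ 2 - 1) := by
  have h1 : 2 ^ a < 2 ^ b := Nat.pow_lt_pow_right (by norm_num) h
  have h2 : (2 ^ a) ^ 2 < (2 ^ b) ^ 2 := Nat.pow_lt_pow_left h1 (by norm_num)
  have h3 : 1 ≤ (2 ^ a) ^ 2 := Nat.one_le_pow _ _ (by positivity)
  exact Nat.mul_lt_mul_of_lt_of_le h1 (by omega) (by omega)

/-- a prime divisor `≥ 11` -/
theorem big {p : ℕ} (hp : p.Prime) (h11 : 11 ≤ p) (hd : p ∣ Nat.card S) :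
    (∃ p, p.Prime ∧ 11 ≤ p ∧ p ∣ Nat.card S ∧ NE p S) ∨ ∃ m, 13 ≤ m ∧ Nonempty (S ≃* alternatingGroup (Fin m)) := by
  by_cases h : NE p S
  · exact Or.inl ⟨p, hp, h11, hd, h⟩
  rcases not_NE h with ⟨m, h1, -, h2⟩ | ⟨k, h1, h2⟩
  · exact Or.inr ⟨m, by omega, h2⟩
  have h3 : 4 ≤ k := by
    by_contra h3
    have : 2 ^ k ≤ 2 ^ 3 := Nat.pow_le_pow_right (by norm_num) (by omega)
    omega
  obtain ⟨r, r1, r2, r3, -⟩ := Lib.Zsigmondy.exists_primitive (a := 2) (n := 2 * k) le_rfl (by omega) (by omega) (by omega)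
  have r4 := Nat.le_of_dvd (by have := r1.two_le; omega) r3
  have r5 : 11 ≤ r := by
    by_contra r5
    have := lt_eleven r1 (by omega)
    omega
  have r6 : r ∣ Nat.card S := by
    rw [h2 (by omega), ← pow_mul, mul_comm k]
    exact ((r2 _).2 dvd_rfl).mul_left _
  by_cases h' : NE r S
  · exact Or.inl ⟨r, r1, r5, r6, h'⟩
  rcases not_NE h' with ⟨m, h4, -, h5⟩ | ⟨j, h4, h5⟩
  · exact Or.inr ⟨m, by omega, h5⟩
  have h6 : j ≠ 0 := by
    rintro rfl
    omega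
  have h7 := (h2 (by omega)).symm.trans (h5 h6)
  obtain rfl : k = j := by
    rcases lt_trichotomy k j with h8 | h8 | h8
    · exact absurd h7 (sl_mono h8).ne
    · exact h8
    · exact absurd h7 (sl_mono h8).ne'
  have h8 := Nat.le_of_dvd (by omega) ((r2 k).1 (by rw [← h4]; simp))
  omega

/-- **the three kinds of non-abelian simple groups** -/
theorem kind (hna : ¬ ∀ a b : S, a * b = b * a) :
    (∃ p, p.Prime ∧ 11 ≤ p ∧ p ∣ Nat.card S ∧ NE p S) ∨ (∃ m, 13 ≤ m ∧ Nonempty (S ≃* alternatingGroup (Fin m))) ∨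
      ∃ e ∈ L7, Real e.1 S ∧ Nat.card S = e.2.1 ∧ Nat.card (MulAut S) ∣ e.2.2 * e.2.1 := by
  by_cases h : ∀ p, p.Prime → p ∣ Nat.card S → p < 11
  · exact Or.inr (Or.inr (smooth hna h))
  push Not at h
  obtain ⟨p, hp, hd, h11⟩ := h
  exact (big hp h11 hd).imp_right Or.inl

/-- a prime is not exceptional, read off the order -/
theorem NE_of_card {T : Type*} [Group T] {p : ℕ} (hp : 1 ≤ p) (h1 : ∀ m < p ^ 2 - p, p + 1 < m → 2 * Nat.card T ≠ m !)
    (h2 : ∀ k ≤ p, p + 1 = 2 ^ k → Nat.card T ≠ 2 ^ k * ((2 ^ k) ^ 2 - 1)) : NE p T := by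
  refine ⟨fun m k1 k2 ⟨e⟩ => h1 m k2 k1 ?_, fun k k1 ⟨e⟩ => h2 k ?_ k1 ?_⟩
  · rw [Nat.card_congr e.toEquiv, two_mul_card (by rw [Fintype.card_fin]; omega), Fintype.card_fin]
  · have := Nat.lt_two_pow_self (n := k)
    omega
  · rw [Nat.card_congr e.toEquiv, card_sl k]
    rintro rfl
    omega

end Cfsg.Agent.N2.Alt
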