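import Cfsg.Agent.N2.Alt.NAP2
import Cfsg.Agent.N2.Alt.Tab

/-!
# N2 (S3519), box NA: the product and diagonal types (helper42)
-/

set_option autoImplicit false

namespace Cfsg.Agent.N2.Alt

open Equiv Subgroup Cfsg.Agent.FP3

theorem NP.tab : ∀ e ∈ L7, (49 ≤ e.2.1 ∧ 7 ∣ e.2.1 ∧ (e.2.2 * e.2.1 ≤ 2 ^ 24 ∨
    (∀ m < 42, 2 * e.2.1 ≠ m.factorial) ∧ e.2.1 ≠ 504)) ∨ ((e.2.1 = 60 ∨ e.2.1 = 360) ∧ e.2.2 * e.2.1 ≤ 2 ^ 12) ∨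
    (e.2.1 = 25920 ∧ e.2.2 * e.2.1 ≤ 2 ^ 16) := by decide +kernel

theorem NP.pos : ∀ e ∈ L7, 0 < e.2.2 * e.2.1 := by decide +kernel

theorem NP.kd (T : Type) [Group T] [Finite T] [IsSimpleGroup T] (h : ¬ IsMulCommutative T) : NP.Kd T := by
  rcases kind (S := T) (fun k => h ⟨⟨k⟩⟩) with h1 | ⟨m, h1, h2⟩ | ⟨e, he, -, h1, h2⟩
  · exact Or.inl h1
  · exact Or.inr (Or.inl ⟨m, by omega, h2⟩)
  have h3 := Nat.le_of_dvd (NP.pos e he) h2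
  refine Or.inr (Or.inr ?_)
  rcases NP.tab e he with ⟨h4, h5, h6 | ⟨h6, h7⟩⟩ | ⟨h4, h5⟩ | ⟨h4, h5⟩
  · exact Or.inl ⟨h1 ▸ h4, h1 ▸ h5, Or.inr (h3.trans h6)⟩
  · refine Or.inl ⟨h1 ▸ h4, h1 ▸ h5, Or.inl (NE_of_card (by norm_num) (fun m hm _ => h1 ▸ h6 m hm) fun k _ hk => ?_)⟩
    rw [← hk, h1]
    exact h7
  · exact Or.inr (Or.inl ⟨h1 ▸ h4, h3.trans h5⟩)
  · exact Or.inr (Or.inr ⟨h1 ▸ h4, h3.trans h5⟩)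

/-- **the product and diagonal types** -/
theorem naProd {Ω : Type} [Fintype Ω] [DecidableEq Ω] {H : Subgroup (Perm Ω)} {N : Subgroup H} [N.Normal]
    (h : NF H (N.map H.subtype)) (hmin : ∀ M : Subgroup H, M.Normal → M ≤ N → M = ⊥ ∨ M = N)
    (hna : ¬ ∀ x ∈ N, ∀ y ∈ N, Commute x y) (hc : ¬ IsSimpleGroup N ∨ centralizer (N : Set H) ≠ ⊥) : Good (al H) :=
  NP.naProd_of NP.kd h hmin hna hc

end Cfsg.Agent.N2.Alt
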