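import Cfsg.Agent.N2.Alt.NA1
import Cfsg.Agent.N2.Alt.NAP
import Cfsg.Agent.N2.Alt.Frame

/-!
# N2 (S3519): the row of the alternating groups (helper51)
-/

set_option autoImplicit false

namespace Cfsg.Agent.N2

open Subgroup Cfsg.Agent.FP3

theorem Alt.boxNA : Alt.BoxNA := by
  intro Ω _ _ H N _ h hmin hna
  by_cases hc : ¬ IsSimpleGroup N ∨ centralizer (N : Set H) ≠ ⊥
  · exact Alt.naProd h hmin hna hc
  · push Not at hc
    exact Alt.naOne h hna hc.1 hc.2

/-- **the row of the alternating groups** -/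
theorem as_alt {T : Type*} [Group T] (h : IsAlternating T) : ASRow T := Alt.as_alt_of Alt.boxNA h

theorem rowA : Row fA := fun _ _ _ _ _ h => as_alt h

end Cfsg.Agent.N2
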