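import Cfsg.Agent.N2.Alt.Num
import Cfsg.Agent.S0725
import Cfsg.Agent.H427.Bochert

/-!
# N2 (S3519), alternating groups: centralisers and normalisers of `p`-elements (helper51)
-/

set_option autoImplicit false
set_option linter.unusedSectionVars false

namespace Cfsg.Agent.N2.Alt

open Equiv Equiv.Perm MulAction Subgroup Cfsg.Agent.FP3 Nat

section syl

variable {T : Type*} [Group T] [Finite T] {p : ℕ}

/-- the order of the normaliser of `⟨a⟩` -/
noncomputable def nn (a : T) : ℕ := Nat.card (normalizer (zpowers a : Set T))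

/-- the order of the normaliser of `⟨a⟩` in `A` -/
noncomputable def nA (A : Subgroup T) (a : T) : ℕ := Nat.card ↥(normalizer (zpowers a : Set T) ⊓ A)

theorem nA_top (a : T) : nA ⊤ a = nn a := by rw [nA, inf_top_eq, nn]

theorem nn_pos (a : T) : 0 < nn a := Nat.card_pos

theorem nA_pos (A : Subgroup T) (a : T) : 0 < nA A a := Nat.card_pos

theorem nn_dvd {a : T} (hp : p.Prime) (ho : orderOf a = p) : nn a ∣ (p - 1) * cn a := by
  have h1 := (zpowers a).normalizerMonoidHom.ker.index_mul_card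
  have h2 : (zpowers a).normalizerMonoidHom.ker.index ∣ p - 1 := by
    rw [index_ker, ← Nat.totient_prime hp, ← ho, ← Nat.card_zpowers, ← IsCyclic.card_mulAut]
    exact card_subgroup_dvd_card _
  have h3 : Nat.card (zpowers a).normalizerMonoidHom.ker = cn a := by
    rw [normalizerMonoidHom_ker, Nat.card_congr (subgroupOfEquivOfLe (centralizer_le_normalizer _)).toEquiv, cn,
      zpowers_eq_closure, centralizer_closure]
  rw [nn, ← h1, h3]
  exact Nat.mul_dvd_mul_right h2 _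

theorem fx_eq_fs (A : Subgroup T) (a : T) : fx A a = fs A (zpowers a) :=
  le_antisymm (fx_le_fs A le_rfl) (Nat.card_le_card_of_injective (fun x => (⟨x.1, x.2 a (mem_zpowers a)⟩ : fixedBy (T ⧸ A) a))
    fun _ _ e => Subtype.ext (Subtype.mk.inj e))

theorem not_dvd_relIndex {A : Subgroup T} {a : T} (ha : a ∈ A) (ho : orderOf a = p) (h2 : ¬ p ^ 2 ∣ Nat.card A) :
    ¬ p ∣ (zpowers a).relIndex A := fun h => h2 (by
  rw [← ((zpowers a).subgroupOf A).index_mul_card, Nat.card_congr (subgroupOfEquivOfLe (zpowers_le.2 ha)).toEquiv,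
    Nat.card_zpowers, ho, pow_two]
  exact Nat.mul_dvd_mul_right h p)

theorem isP {a : T} (ho : orderOf a = p) : IsPGroup p (zpowers a) :=
  IsPGroup.of_card (n := 1) (by rw [Nat.card_zpowers, ho, pow_one])

/-- **the Sylow formula** -/
theorem syl {A : Subgroup T} {a : T} (ha : a ∈ A) (hp : p.Prime) (ho : orderOf a = p) (h2 : ¬ p ^ 2 ∣ Nat.card A) :
    fx A a * nA A a = nn a := by
  rw [fx_eq_fs]
  exact fs_sylow hp (zpowers_le.2 ha) (isP ho) (not_dvd_relIndex ha ho h2)

theorem dvd_nA {A : Subgroup T} {a : T} (ha : a ∈ A) (ho : orderOf a = p) : p ∣ nA A a := by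
  rw [← ho, ← Nat.card_zpowers]
  exact card_dvd_of_le (le_inf le_normalizer (zpowers_le.2 ha))

theorem nA_dvd (A : Subgroup T) (a : T) : nA A a ∣ Nat.card A := card_dvd_of_le inf_le_right

theorem nn_dvd_card (a : T) : nn a ∣ Nat.card T := card_subgroup_dvd_card _

theorem nA_hom {G : Type*} [Group G] [Finite G] (ι : G →* T) (hι : Function.Injective ι) {A : Subgroup T}
    (h : ∀ g, ι g ∈ A) (x : G) : nn x ∣ nA A (ι x) := by
  rw [nn, ← card_map_of_injective hι]
  refine card_dvd_of_le (le_inf ?_ ?_)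
  · rw [← MonoidHom.map_zpowers]
    exact le_normalizer_map ι
  · rintro _ ⟨g, -, rfl⟩
    exact h g

theorem nn_mod {a : T} (hp : p.Prime) (ho : orderOf a = p) (h2 : ¬ p ^ 2 ∣ Nat.card T) : Nat.card T / nn a % p = 1 := by
  have : Fact p.Prime := ⟨hp⟩
  have h1 := not_dvd_relIndex (mem_top a) ho (by rwa [card_top])
  rw [relIndex_top_right] at h1
  have h3 := Sylow.card_eq_index_normalizer ((isP ho).toSylow h1)
  have h4 := card_sylow_modEq_one p T
  rw [h3] at h4
  have h5 : Nat.card T / nn a = (normalizer (zpowers a : Set T)).index := by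
    rw [← (normalizer (zpowers a : Set T)).index_mul_card]
    exact Nat.mul_div_cancel _ (nn_pos a)
  rw [h5]
  exact Eq.trans h4 (Nat.mod_eq_of_lt hp.one_lt)

theorem nA_eq {A : Subgroup T} (a : A) : nA A a = nn a := by
  refine le_antisymm ?_ (Nat.le_of_dvd (nA_pos _ _) (nA_hom A.subtype A.subtype_injective (fun g => g.2) a))
  refine Nat.card_le_card_of_injective (fun x => ⟨⟨x.1, x.2.2⟩, mem_normalizer_iff.2 fun y => ?_⟩) fun _ _ e =>
    Subtype.ext (congrArg (fun z => z.1.1) e)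
  have k : ∀ z : A, z ∈ zpowers a ↔ (z : T) ∈ zpowers (a : T) := fun z =>
    ⟨fun ⟨k, hk⟩ => ⟨k, congrArg Subtype.val hk⟩, fun ⟨k, hk⟩ => ⟨k, Subtype.ext hk⟩⟩
  rw [k, k]
  exact mem_normalizer_iff.1 x.2.1 y

theorem nA_mod {A : Subgroup T} {a : T} (ha : a ∈ A) (hp : p.Prime) (ho : orderOf a = p) (h2 : ¬ p ^ 2 ∣ Nat.card A) :
    Nat.card A / nA A a % p = 1 := by
  rw [nA_eq (⟨a, ha⟩ : A)]
  exact nn_mod hp (by rw [← ho, ← orderOf_coe]) h2

variable {Ω : Type*} [MulAction T Ω] [IsPretransitive T Ω]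

theorem card_fixedBy_eq (ω : Ω) (x : T) : Nat.card (fixedBy Ω x) = fx (stabilizer T ω) x := by
  symm
  refine Nat.card_congr ((Equiv.ofBijective (ofQuotientStabilizer T ω) ⟨injective_ofQuotientStabilizer T ω, fun y => ?_⟩).subtypeEquiv
    fun q => ?_)
  · obtain ⟨g, rfl⟩ := exists_smul_eq T ω y
    exact ⟨g, rfl⟩
  · show x • q = q ↔ x • ofQuotientStabilizer T ω q = ofQuotientStabilizer T ω q
    rw [← ofQuotientStabilizer_smul, (injective_ofQuotientStabilizer T ω).eq_iff]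

/-- the number of fixed points of a generator of a Sylow subgroup of prime order -/
theorem fix_syl {x : T} (hp : p.Prime) (ho : orderOf x = p) (h2 : ¬ p ^ 2 ∣ Nat.card T) :
    Nat.card (fixedBy Ω x) = 0 ∨ ∃ e, p ∣ e ∧ Nat.card (fixedBy Ω x) * e = nn x := by
  rcases isEmpty_or_nonempty (fixedBy Ω x) with h | ⟨⟨ω, hω⟩⟩
  · exact Or.inl Nat.card_of_isEmpty
  · refine Or.inr ⟨nA (stabilizer T ω) x, dvd_nA hω ho, ?_⟩
    rw [card_fixedBy_eq ω]
    exact syl hω hp ho fun h => h2 (h.trans (card_subgroup_dvd_card _))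

end syl

section perm

variable {Ω : Type} [Fintype Ω] [DecidableEq Ω] {H : Subgroup (Perm Ω)} {x : Perm Ω} {p i f j : ℕ}

theorem nf_add (x : Perm Ω) : nf x + x.cycleType.sum = Fintype.card Ω := by
  have h1 : nf x = Fintype.card (Function.fixedPoints x) := by
    rw [← Nat.card_eq_fintype_card]
    rfl
  have := x.sum_cycleType_le
  rw [h1, card_fixedPoints]
  omega

theorem nf_coe {N : Subgroup (Perm Ω)} (x : N) : Nat.card (fixedBy Ω x) = nf (x : Perm Ω) := rfl

theorem dvd_of_mem (hp : p.Prime) (ho : orderOf x = p ^ i) {l : ℕ} (hl : l ∈ x.cycleType) : p ∣ l ∧ 1 ≤ l := by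
  have h1 := two_le_of_mem_cycleType hl
  obtain ⟨k, -, rfl⟩ := (Nat.dvd_prime_pow hp).1 (ho ▸ dvd_of_mem_cycleType hl)
  refine ⟨dvd_pow_self p ?_, by omega⟩
  rintro rfl
  simp at h1

theorem exists_j (hp : p.Prime) (ho : orderOf x = p ^ i) : ∃ j, Fintype.card Ω = nf x + p * j := by
  obtain ⟨j, hj⟩ : p ∣ x.cycleType.sum := Multiset.dvd_sum fun l hl => (dvd_of_mem hp ho hl).1
  exact ⟨j, by rw [← hj, nf_add]⟩

theorem prod_le (hp : 2 ≤ p) (M : Multiset ℕ) (h : ∀ l ∈ M, p ∣ l ∧ 1 ≤ l) :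
    ∀ j, M.sum = p * j → M.prod ≤ p ^ j ∧ M.card ≤ j := by
  induction M using Multiset.induction_on with
  | empty => exact fun j _ => ⟨Nat.one_le_pow _ _ (by omega), Nat.zero_le _⟩
  | cons l M ih =>
    intro j hj
    obtain ⟨⟨t, rfl⟩, h1⟩ := h l (Multiset.mem_cons_self _ _)
    have h2 : ∀ l ∈ M, p ∣ l ∧ 1 ≤ l := fun l hl => h l (Multiset.mem_cons_of_mem hl)
    obtain ⟨k, hk⟩ : p ∣ M.sum := Multiset.dvd_sum fun l hl => (h2 l hl).1
    obtain ⟨h3, h4⟩ := ih h2 k hk
    rw [Multiset.sum_cons, hk, ← mul_add] at hj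
    obtain rfl := Nat.eq_of_mul_eq_mul_left (by omega) hj
    obtain ⟨t, rfl⟩ : ∃ s, t = s + 1 := ⟨t - 1, by rcases t with _ | t <;> simp_all⟩
    rw [Multiset.prod_cons, Multiset.card_cons, pow_add]
    refine ⟨Nat.mul_le_mul ?_ h3, by omega⟩
    rw [pow_succ']
    exact Nat.mul_le_mul_left _ (Nat.lt_pow_self (by omega))

/-- **the centraliser of a `p`-element** -/
theorem cen_le (hp : p.Prime) (ho : orderOf x = p ^ i) (hn : Fintype.card Ω = nf x + p * j) :
    Nat.card (centralizer ({x} : Set (Perm Ω))) ≤ cb p (nf x) j := by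
  have h1 := nf_add x
  obtain ⟨h2, h3⟩ := prod_le hp.two_le x.cycleType (fun l hl => dvd_of_mem hp ho hl) j (by omega)
  rw [nat_card_centralizer, cb, show Fintype.card Ω - x.cycleType.sum = nf x by omega]
  refine Nat.mul_le_mul (Nat.mul_le_mul_left _ h2) (le_trans (Nat.le_of_dvd (factorial_pos _)
    (Nat.prod_factorial_dvd_factorial_sum _ _)) (factorial_le ?_))
  rwa [Multiset.toFinset_sum_count_eq]

theorem cycleType_eq_rep (hp : p.Prime) (ho : orderOf x = p) (hn : Fintype.card Ω = nf x + p * j) :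
    x.cycleType = Multiset.replicate j p ∧ 1 ≤ j := by
  obtain ⟨k, hk⟩ := cycleType_prime_order (ho ▸ hp)
  have h1 := nf_add x
  rw [ho] at hk
  rw [hk, Multiset.sum_replicate, smul_eq_mul, hn, mul_comm] at h1
  have h2 := Nat.eq_of_mul_eq_mul_left hp.pos (Nat.add_left_cancel h1)
  exact ⟨h2 ▸ hk, by omega⟩

theorem cen_eq (hp : p.Prime) (ho : orderOf x = p) (hn : Fintype.card Ω = nf x + p * j) :
    Nat.card (centralizer ({x} : Set (Perm Ω))) = cb p (nf x) j := by
  obtain ⟨h1, h2⟩ := cycleType_eq_rep hp ho hn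
  have h3 := nf_add x
  rw [nat_card_centralizer, cb, show Fintype.card Ω - x.cycleType.sum = nf x by omega, h1, Multiset.prod_replicate,
    Multiset.toFinset_replicate, if_neg (by omega), Finset.prod_singleton, Multiset.count_replicate_self]

theorem cn_mul (hx : x ∈ alternatingGroup Ω) : cn (⟨x, hx⟩ : alternatingGroup Ω) *
    (alternatingGroup Ω).relIndex (centralizer {x}) = Nat.card (centralizer ({x} : Set (Perm Ω))) := by
  rw [← TH.Alt.card_subgroupOf_mul _ (alternatingGroup Ω), cn]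
  congr 3
  ext y
  rw [mem_subgroupOf, mem_centralizer_singleton_iff, mem_centralizer_singleton_iff, Subtype.ext_iff]
  rfl

theorem cn_le (hx : x ∈ alternatingGroup Ω) :
    cn (⟨x, hx⟩ : alternatingGroup Ω) ≤ Nat.card (centralizer ({x} : Set (Perm Ω))) :=
  Nat.le_of_dvd Nat.card_pos (Dvd.intro _ (cn_mul hx))

theorem cn_half (hx : x ∈ alternatingGroup Ω) (h : ¬ centralizer {x} ≤ alternatingGroup Ω) :
    cn (⟨x, hx⟩ : alternatingGroup Ω) * 2 = Nat.card (centralizer ({x} : Set (Perm Ω))) := by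
  obtain ⟨τ, h1, h2⟩ := SetLike.not_le_iff_exists.1 h
  rw [← cn_mul hx, TH.Alt.relIndex_alt_eq h1 (TH.Alt.sign_eq_neg h2)]

/-- the centraliser in the alternating group of an element of prime order -/
theorem cn_prime (hx : x ∈ alternatingGroup Ω) (hp : p.Prime) (ho : orderOf x = p) (hn : Fintype.card Ω = nf x + p * j)
    (h : 2 ≤ nf x ∨ 2 ≤ j) : cn (⟨x, hx⟩ : alternatingGroup Ω) * 2 = cb p (nf x) j := by
  rw [← cen_eq hp ho hn]
  refine cn_half hx fun k => ?_
  obtain ⟨-, h1, h2⟩ := centralizer_le_alternating_iff.1 k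
  have h3 := nf_add x
  have h4 := h2 p
  rw [(cycleType_eq_rep hp ho hn).1, Multiset.count_replicate_self] at h4
  omega

theorem two_mul_card (h : 2 ≤ Fintype.card Ω) : 2 * Nat.card (alternatingGroup Ω) = (Fintype.card Ω)! := by
  have := Fintype.one_lt_card_iff_nontrivial.1 h
  rw [two_mul_nat_card_alternatingGroup, Nat.card_perm, Nat.card_eq_fintype_card]

theorem good_fx (h2 : 2 ≤ Fintype.card Ω) (hx : x ∈ H) (he : x ∈ alternatingGroup Ω) {c : ℕ}
    (h : fx (al H) ⟨x, he⟩ ≤ c) (hc : 2 * c ^ 3 * Nat.card (al H) ≤ (Fintype.card Ω)!) : Good (al H) := by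
  refine good_of_le (a := ⟨x, he⟩) hx h (Nat.le_of_mul_le_mul_left ?_ two_pos)
  rwa [two_mul_card h2, ← mul_assoc]

theorem good_cen (h2 : 2 ≤ Fintype.card Ω) (hx : x ∈ H) (he : x ∈ alternatingGroup Ω) {c : ℕ}
    (h : Nat.card (centralizer ({x} : Set (Perm Ω))) ≤ c) (hc : 2 * c ^ 3 * Nat.card (al H) ≤ (Fintype.card Ω)!) :
    Good (al H) := good_fx h2 hx he ((fx_le_cn _ _).trans ((cn_le he).trans h)) hc

theorem even_of_odd (hp : p.Prime) (h2 : p ≠ 2) (ho : orderOf x = p ^ i) : x ∈ alternatingGroup Ω := by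
  have h1 : sign x ^ p ^ i = 1 := by rw [← map_pow, ← ho, pow_orderOf_eq_one, map_one]
  rcases Int.units_eq_one_or (sign x) with h | h
  · exact h
  · rw [h, (hp.odd_of_ne_two h2).pow.neg_one_pow] at h1
    exact absurd h1 (by decide)

/-- **criterion**: a `p`-element with a small centraliser -/
theorem good_cb (h2 : 2 ≤ Fintype.card Ω) (hx : x ∈ H) (hp : p.Prime) (hp2 : p ≠ 2) (ho : orderOf x = p ^ i)
    (hn : Fintype.card Ω = nf x + p * j) (hc : 2 * cb p (nf x) j ^ 3 * Nat.card (al H) ≤ (Fintype.card Ω)!) : Good (al H) :=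
  good_cen h2 hx (even_of_odd hp hp2 ho) (cen_le hp ho hn) hc

theorem card_al_dvd (H : Subgroup (Perm Ω)) : Nat.card (al H) ∣ Nat.card H :=
  Dvd.intro _ (TH.Alt.card_subgroupOf_mul H _)

theorem card_al_le (H : Subgroup (Perm Ω)) : Nat.card (al H) ≤ Nat.card H := Nat.le_of_dvd Nat.card_pos (card_al_dvd H)

theorem Pr.four (h : Pr H) : Nat.card (al H) ≤ 4 ^ Fintype.card Ω := (card_al_le H).trans (S0725.result H h.prim h.nle)

theorem Pr.boch (h : Pr H) : Nat.card (al H) * ((Fintype.card Ω + 1) / 2)! ≤ (Fintype.card Ω)! :=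
  (Nat.mul_le_mul_right _ (card_al_le H)).trans (H427.bochert H h.prim h.nle)

theorem NF.card_dvd {N : Subgroup (Perm Ω)} (h : NF H N) : Nat.card N ∣ Nat.card (al H) := by
  rw [← Nat.card_congr (subgroupOfEquivOfLe h.even).toEquiv]
  exact card_dvd_of_le fun x hx => h.le hx

theorem NF.nn_dvd {N : Subgroup (Perm Ω)} (h : NF H N) (x : N) : nn x ∣ nA (al H) ⟨x, h.even x.2⟩ :=
  nA_hom (inclusion h.even) (inclusion_injective _) (fun g => h.le g.2) x

theorem NF.deg_dvd {N : Subgroup (Perm Ω)} (h : NF H N) : Fintype.card Ω ∣ Nat.card N := by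
  have := h.tr
  obtain ⟨ω⟩ : Nonempty Ω := Fintype.card_pos_iff.1 (by have := h.card; omega)
  rw [← Nat.card_eq_fintype_card, ← index_stabilizer_of_transitive N ω]
  exact index_dvd_card _

theorem orderOf_eq (ho : orderOf x = p ^ i) (h1 : nf x < Fintype.card Ω) {G : Subgroup (Perm Ω)}
    (hx : x ∈ G) (h2 : ¬ p ^ 2 ∣ Nat.card G) : orderOf x = p := by
  have h3 : orderOf x ∣ Nat.card G := by
    rw [← Nat.card_zpowers]
    exact card_dvd_of_le (zpowers_le.2 hx)
  rcases i with _ | _ | i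
  · have h4 := nf_add x
    rw [pow_zero, orderOf_eq_one_iff] at ho
    rw [ho, cycleType_one, Multiset.sum_zero] at h4
    rw [ho] at h1
    omega
  · simpa using ho
  · exact absurd ((pow_dvd_pow p (by omega)).trans (ho ▸ h3)) h2

theorem good_seven (h : Pr H) (hx : x ∈ H) (ho : orderOf x = 7 ^ i) (hf : 8 * nf x ≤ Fintype.card Ω)
    (hn : 49 ≤ Fintype.card Ω) : Good (al H) := by
  obtain ⟨j, hj⟩ := exists_j (by norm_num) ho
  exact good_cb (by omega) hx (by norm_num) (by norm_num) ho hj ((Q4_seven _ j (by omega) (by omega)).le hj h.four)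

theorem good_two {c : ℕ} (hc : c = 1 ∨ c = 2 ∨ c = 4 ∨ c = 5) (hx : x ∈ H) (ho : orderOf x = (2 * c + 3) ^ i)
    (hf : (3 * c + 3) * nf x ≤ c * Fintype.card Ω) (hn : 25 ≤ Fintype.card Ω)
    (hA : Nat.card (al H) ≤ 2 ^ Fintype.card Ω) : Good (al H) := by
  have hp : (2 * c + 3).Prime := by rcases hc with rfl | rfl | rfl | rfl <;> norm_num
  obtain ⟨j, hj⟩ := exists_j hp ho
  refine good_cb (by omega) hx hp (by omega) ho hj (Q.le ?_ hj hA)
  rcases hc with rfl | rfl | rfl | rfl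
  · exact Q_five _ j (by omega) (by omega)
  · exact Q_seven _ j (by omega) (by omega)
  · exact Q_eleven _ j (by omega) (by omega)
  · exact Q_thirteen _ j (by omega) (by omega)

theorem good_big (h : Pr H) (hx : x ∈ H) (hp : p.Prime) (h11 : 11 ≤ p) (ho : orderOf x = p ^ i)
    (hf : (p + 1) * nf x ≤ Fintype.card Ω) : Good (al H) := by
  obtain ⟨j, hj⟩ := exists_j hp ho
  have h7 := h.card
  have h1 : nf x ≤ j := Nat.le_of_mul_le_mul_left (by rw [hj, add_mul] at hf; omega) hp.pos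
  have h2 : 1 ≤ j := by
    rcases j with _ | j
    · omega
    · omega
  by_cases h3 : 17 ≤ p ∨ 2 ≤ j
  · exact good_cb (by omega) hx hp (by omega) ho hj ((Q4_big hp h11 _ j h2 h3 h1).le hj h.four)
  obtain rfl : j = 1 := by omega
  have h4 : p = 11 ∨ p = 13 := by
    have : p < 17 := by omega
    interval_cases p <;> simp_all (config := { decide := true })
  have h5 : nf x = 0 ∨ nf x = 1 := by omega
  rcases h4 with rfl | rfl
  swap
  · refine good_cb (by omega) hx hp (by omega) ho hj (le_of_bochert ?_ h.boch)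
    rcases h5 with h5 | h5 <;> rw [hj, h5] <;> decide +kernel
  have he := even_of_odd hp (by norm_num) ho
  have h6 := two_mul_card (Ω := Ω) (by omega)
  have h8 : Nat.card (alternatingGroup Ω) = 19958400 ∨ Nat.card (alternatingGroup Ω) = 239500800 := by
    have e1 : (0 + 11 * 1)! = 39916800 := by decide +kernel
    have e2 : (1 + 11 * 1)! = 479001600 := by decide +kernel
    rcases h5 with h5 | h5 <;> rw [hj, h5] at h6 <;> omega
  have h9 : ¬ 11 ^ 2 ∣ Nat.card (alternatingGroup Ω) := by rcases h8 with h8 | h8 <;> rw [h8] <;> norm_num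
  have ho' := orderOf_eq ho (by omega) he h9
  have ho2 : orderOf (⟨x, he⟩ : alternatingGroup Ω) = 11 := by rw [← ho', ← orderOf_coe]
  have k1 := syl (A := al H) (a := ⟨x, he⟩) hx hp ho2 fun k => h9 (k.trans (card_subgroup_dvd_card _))
  have k2 := Nat.le_of_dvd (nA_pos _ _) (dvd_nA (A := al H) (a := ⟨x, he⟩) hx ho2)
  have k3 := nn_mod hp ho2 h9
  have k4 : cn (⟨x, he⟩ : alternatingGroup Ω) ∣ 11 := by
    refine (Dvd.intro _ (cn_mul he)).trans ?_
    rw [cen_eq hp ho' hj]
    rcases h5 with h5 | h5 <;> rw [h5] <;> decide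
  have k5 : nn (⟨x, he⟩ : alternatingGroup Ω) ∣ 110 := (nn_dvd hp ho2).trans (Nat.mul_dvd_mul_left 10 k4)
  have k6 : nn (⟨x, he⟩ : alternatingGroup Ω) ≠ 110 := fun k => by
    rw [k] at k3
    omega
  have k7 : nn (⟨x, he⟩ : alternatingGroup Ω) ≤ 55 := by
    obtain ⟨d, hd⟩ := k5
    rcases d with _ | _ | d
    · omega
    · omega
    · nlinarith
  refine good_fx (c := 5) (by omega) hx he (by nlinarith) (le_of_bochert ?_ h.boch)
  rcases h5 with h5 | h5 <;> rw [hj, h5] <;> decide +kernel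

end perm

end Cfsg.Agent.N2.Alt
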