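import Cfsg.Agent.N2.Alt.AS2
import Cfsg.Agent.N2.Alt.Cen

/-!
# N2 (S3519), box AS (helper42)
-/

set_option autoImplicit false

namespace Cfsg.Agent.N2.Alt

theorem boxAS : BoxAS := by
  intro Ω _ _ H N m h9 hN ⟨e⟩ hH
  obtain ⟨x, hx, ⟨p, h1, h2, ⟨i, h3⟩, h4⟩ | ⟨⟨i, h1⟩, h2, h3⟩ | ⟨h1, h2, c, h3, ⟨i, h4⟩, h5⟩⟩ := AS.red h9 hN e hH
  · exact good_big hN.toPr (hN.le hx) h1 h2 h3 h4
  · exact good_seven hN.toPr (hN.le hx) h1 h2 h3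
  · exact good_two (by omega) (hN.le hx) h4 h5 h2 h1

end Cfsg.Agent.N2.Alt
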