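import Cfsg.Agent.N2.Alt.Defs
import Cfsg.Agent.H427.Bochert

/-!
# N2 (S3519), box AS, part 1: elements of `A_m` with few fixed cosets (helper42)
-/

set_option autoImplicit false
set_option linter.unusedSectionVars false

namespace Cfsg.Agent.N2.Alt.AS

open Equiv Equiv.Perm MulAction Subgroup Cfsg.Agent.FP3 Cfsg.Agent.TH.Alt Cfsg.Agent.TH.Sim.Al
open scoped Pointwise

section general

variable {G X : Type*} [Group G] [MulAction G X]

/-- fixed points in a transitive action and fixed cosets -/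
theorem card_fixedBy_eq [IsPretransitive G X] (ω : X) (g : G) : Nat.card (fixedBy X g) = fx (stabilizer G ω) g := by
  have hb : Function.Bijective (ofQuotientStabilizer G ω) := ⟨injective_ofQuotientStabilizer G ω, fun y => by
    obtain ⟨t, rfl⟩ := exists_smul_eq G ω y
    exact ⟨t, rfl⟩⟩
  refine (Nat.card_congr ((Equiv.ofBijective _ hb).subtypeEquiv fun x => ?_)).symm
  change g • x = x ↔ g • ofQuotientStabilizer G ω x = ofQuotientStabilizer G ω x
  rw [← ofQuotientStabilizer_smul, hb.1.eq_iff]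

theorem fx_comap {G' : Type*} [Group G'] (e : G ≃* G') (U : Subgroup G') (g : G) :
    fx (U.comap e.toMonoidHom) g = fx U (e g) := by
  refine Nat.card_congr ((Quotient.congr e.toEquiv fun a b => ?_).subtypeEquiv fun x => ?_)
  · rw [QuotientGroup.leftRel_apply, QuotientGroup.leftRel_apply, mem_comap]
    simp
  · induction x using QuotientGroup.induction_on with | H t => ?_
    change g • (t : G ⧸ U.comap e.toMonoidHom) = t ↔ e g • ((e t : G') : G' ⧸ U) = (e t : G')
    rw [smul_mk_iff, smul_mk_iff, mem_comap]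
    simp

variable [Finite G]

/-- the fixed point ratio is monotone -/
theorem fx_ratio {U V : Subgroup G} {y : G} (h : ∀ t, t⁻¹ * y * t ∈ U → t⁻¹ * y * t ∈ V) :
    fx U y * V.index ≤ fx V y * U.index := by
  have h1 := card_pre U fun x => y • x = x
  have h2 := card_pre V fun x => y • x = x
  have h3 : Nat.card {t : G // y • (t : G ⧸ U) = t} ≤ Nat.card {t : G // y • (t : G ⧸ V) = t} :=
    Nat.card_le_card_of_injective (fun t => ⟨t.1, (smul_mk_iff V y t.1).2 (h _ ((smul_mk_iff U y t.1).1 t.2))⟩)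
      fun _ _ e => Subtype.ext (Subtype.mk.inj e)
  rw [h1, h2] at h3
  change fx U y * _ ≤ fx V y * _ at h3
  refine Nat.le_of_mul_le_mul_right ?_ (Nat.mul_pos (Nat.card_pos (α := U)) (Nat.card_pos (α := V)))
  calc _ = fx U y * Nat.card U * (V.index * Nat.card V) := by ring
    _ ≤ fx V y * Nat.card V * (U.index * Nat.card U) := by
      rw [V.index_mul_card, U.index_mul_card]
      exact Nat.mul_le_mul_right _ h3
    _ = _ := by ring

theorem fx_eq_zero {U : Subgroup G} {y : G} (h : ∀ t, t⁻¹ * y * t ∉ U) : fx U y = 0 := by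
  refine Nat.card_eq_zero.2 (Or.inl ⟨fun ⟨x, hx⟩ => ?_⟩)
  induction x using QuotientGroup.induction_on with | H t => ?_
  exact h t ((smul_mk_iff U y t).1 hx)

theorem fx_eq_zero_of_not_dvd {U : Subgroup G} {y : G} (h : ¬ orderOf y ∣ Nat.card U) : fx U y = 0 :=
  fx_eq_zero fun t ht => h <| by
    have h1 : orderOf (t⁻¹ * y * t) = orderOf y := by
      have := orderOf_injective (MulAut.conj t⁻¹).toMonoidHom (MulAut.conj t⁻¹).injective y
      simpa using this
    exact h1 ▸ U.orderOf_dvd_natCard ht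

end general

section perm

variable {α : Type*} [Fintype α] [DecidableEq α]

/-- an element of prime order `p` which stabilises a set with less than `p` points fixes it pointwise -/
theorem fix_of_SW {O : Finset α} {σ : Perm α} {p : ℕ} (hp : p.Prime) (h1 : σ ^ p = 1) (h2 : σ ∈ SW O) (h3 : O.card < p)
    {o : α} (ho : o ∈ O) : σ o = o := by
  have : Fact p.Prime := ⟨hp⟩
  let τ : Perm O := σ.subtypePerm h2
  have h4 : τ ^ p ^ 1 = 1 := by
    have h8 := subtypePerm_pow σ p h2
    rw [pow_one]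
    refine h8.trans ?_
    ext x
    simp [h1]
  have h5 : orderOf τ ∣ p := orderOf_dvd_of_pow_eq_one (by simpa using h4)
  rcases (Nat.dvd_prime hp).1 h5 with h6 | h6
  · exact congrArg (fun f : Perm O => (f ⟨o, ho⟩).1) (orderOf_eq_one_iff.1 h6)
  · have h7 : p ∣ Nat.card (Perm O) := h6 ▸ orderOf_dvd_natCard τ
    rw [Nat.card_eq_fintype_card, Fintype.card_perm, hp.dvd_factorial, Fintype.card_coe] at h7
    omega

/-- an element of order `p` moves at least `p` points -/
theorem fix_add_le {σ : Perm α} {p : ℕ} (hp : p.Prime) (h : orderOf σ = p) :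
    Nat.card (fixedBy α σ) + p ≤ Fintype.card α := by
  have : Fact p.Prime := ⟨hp⟩
  have h1 : σ ^ p ^ 1 = 1 := by rw [pow_one, ← h, pow_orderOf_eq_one]
  have h2 := card_compl_support_modEq h1
  have h3 : Nat.card (fixedBy α σ) = σ.supportᶜ.card := by
    rw [← Fintype.card_coe, ← Nat.card_eq_fintype_card]
    exact Nat.card_congr (Equiv.subtypeEquivRight fun x => by simp)
  have h4 : σ.support.card ≠ 0 := fun h5 => hp.ne_one (by rw [← h, card_support_eq_zero.1 h5, orderOf_one])
  have h5 := Finset.card_add_card_compl σ.support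
  have h6 := Nat.le_of_dvd (by omega) ((Nat.modEq_iff_dvd' (by omega)).1 h2)
  omega

theorem card_alt (hn : 2 ≤ Fintype.card α) : 2 * Nat.card (alternatingGroup α) = (Fintype.card α).factorial := by
  have : Nontrivial α := Fintype.one_lt_card_iff_nontrivial.1 hn
  rw [Nat.card_eq_fintype_card, two_mul_card_alternatingGroup, Fintype.card_perm]

/-- the fixed point ratio on the cosets of an intransitive subgroup -/
theorem fx_SW (hn : 3 ≤ Fintype.card α) {U : Subgroup (alternatingGroup α)} {O : Finset α} (h0 : 1 ≤ O.card)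
    (hU : U ≤ (SW O).subgroupOf _) {p : ℕ} (hp : p.Prime) (h3 : O.card < p) {y : alternatingGroup α} (hy : y ^ p = 1) :
    fx U y * Fintype.card α ≤ Nat.card (fixedBy α (y : Perm α)) * U.index := by
  obtain ⟨o, ho⟩ := Finset.card_pos.1 h0
  have := alternatingGroup.isPretransitive_of_three_le_card α (by simpa using hn)
  have h1 := fx_ratio (U := U) (V := stabilizer (alternatingGroup α) o) (y := y) fun t ht => by
    have h4 : (t⁻¹ * y * t) ^ p = 1 := by
      have := conj_pow (a := t⁻¹) (b := y) (i := p)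
      rw [inv_inv] at this
      rw [this, hy]
      simp
    exact fix_of_SW hp (σ := ((t⁻¹ * y * t : alternatingGroup α) : Perm α)) (by rw [← Subgroup.coe_pow, h4]; rfl)
      (hU ht) h3 ho
  rw [index_stabilizer_of_transitive, ← card_fixedBy_eq, Nat.card_eq_fintype_card (α := α)] at h1
  exact h1

/-- the three kinds of proper subgroups, with Bochert's bound -/
theorem tri' (hn : 5 ≤ Fintype.card α) {U : Subgroup (alternatingGroup α)} (hU : U ≠ ⊤) :
    (∃ O : Finset α, 1 ≤ O.card ∧ 2 * O.card ≤ Fintype.card α ∧ U ≤ (SW O).subgroupOf _) ∨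
    (∃ a b, 2 ≤ a ∧ a < Fintype.card α ∧ Fintype.card α = a * b ∧ Nat.card U ∣ a.factorial ^ b * b.factorial) ∨
    (Nat.card U * ((Fintype.card α + 1) / 2).factorial ≤ (Fintype.card α).factorial ∧
      ∀ r, r.Prime → r ≠ 2 → r + 3 ≤ Fintype.card α → r ∣ U.index) := by
  let L := U.map (alternatingGroup α).subtype
  have hL : Nat.card L = Nat.card U := Subgroup.card_map_of_injective (alternatingGroup α).subtype_injective
  by_cases h1 : IsPretransitive L α
  swap
  · obtain ⟨O, h2, h3, h4⟩ := exists_SW h1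
    exact Or.inl ⟨O, h2, h3, fun x hx => h4 (TH.Alt.mem_map.2 hx)⟩
  refine Or.inr ?_
  by_cases h2 : IsPreprimitive L α
  · have hA : ¬ alternatingGroup α ≤ L := fun h => hU (eq_top_iff.2 fun y _ => TH.Alt.mem_map.1 (h y.2))
    refine Or.inr ⟨hL ▸ H427.bochert L h2 hA, fun r hr h3 h4 => ?_⟩
    by_contra h5
    obtain ⟨g, h6, h7, h8⟩ := exists_cycle_mem le_rfl hr h3 (by omega) h5
    have := lib_jordan h2 hA hn g (TH.Alt.mem_map.2 h6) h7 (h8 ▸ hr)
    omega
  obtain ⟨B, hB, h3⟩ : ∃ B : Set α, IsBlock L B ∧ ¬ IsTrivialBlock B := by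
    by_contra h3
    push Not at h3
    exact h2 ⟨fun hB => h3 _ hB⟩
  rw [IsTrivialBlock, not_or, Set.not_subsingleton_iff] at h3
  refine Or.inl ⟨B.ncard, (orbit L B).ncard, Set.one_lt_ncard_iff_nontrivial.2 h3.1, ?_, ?_,
    hL ▸ card_dvd_block L hB h3.1.nonempty⟩
  · rw [← Nat.card_eq_fintype_card, ← Set.ncard_univ]
    exact Set.ncard_lt_ncard (Set.ssubset_univ_iff.2 h3.2)
  · rw [hB.ncard_block_mul_ncard_orbit_eq h3.1.nonempty, Nat.card_eq_fintype_card]

end perm

section alt

variable {m : ℕ} {U : Subgroup (alternatingGroup (Fin m))}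

theorem idx_mul (h : 2 ≤ m) (U : Subgroup (alternatingGroup (Fin m))) : 2 * (U.index * Nat.card U) = m.factorial := by
  rw [U.index_mul_card, card_alt (by simpa using h), Fintype.card_fin]

theorem choose_two_le {k : ℕ} (h2 : 2 ≤ k) (hk : 2 * k ≤ m) : m.choose 2 ≤ m.choose k := by
  induction k, h2 using Nat.le_induction with
  | base => exact le_rfl
  | succ k h ih => exact (ih (by omega)).trans (Nat.choose_le_succ_of_lt_half_left (by omega))

/-- the index of an intransitive subgroup -/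
theorem idx_SW (h6 : 6 ≤ m) (hm : U.index ≠ m) {O : Finset (Fin m)} (h1 : 1 ≤ O.card) (h2 : 2 * O.card ≤ m)
    (hU : U ≤ (SW O).subgroupOf _) : m.choose 2 ≤ U.index := by
  have h3 := index_SW (Γ := alternatingGroup (Fin m)) le_rfl (by simpa using (by omega : 3 ≤ m)) O
  rw [Fintype.card_fin] at h3
  rcases h1.eq_or_lt with h4 | h4
  · rw [← h4, Nat.choose_one_right] at h3
    rcases index_sub h6 hU h3 with h5 | h5
    · exact absurd (h5 ▸ h3) hm
    · rw [Nat.choose_two_right]
      omega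
  · exact (choose_two_le h4 h2).trans (h3 ▸ Nat.le_of_dvd (Nat.pos_of_ne_zero index_ne_zero_of_finite) (index_dvd_of_le hU))

theorem exists_ord {p : ℕ} (hp : p.Prime) (h2 : p ≠ 2) (h : p ≤ m) : ∃ y : alternatingGroup (Fin m), orderOf y = p := by
  have : Fact p.Prime := ⟨hp⟩
  refine exists_prime_orderOf_dvd_card' p ?_
  have h1 := card_alt (α := Fin m) (by simpa using hp.two_le.trans h)
  have h3 : p ∣ 2 * Nat.card (alternatingGroup (Fin m)) := by
    rw [h1, Fintype.card_fin]
    exact hp.dvd_factorial.2 h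
  exact ((Nat.coprime_primes hp Nat.prime_two).2 h2).dvd_of_dvd_mul_left h3

/-- a prime `r > m / 2` which divides the index does not divide the order -/
theorem not_dvd_of_dvd_index {r : ℕ} (hr : r.Prime) (h2 : 2 ≤ m) (h : m < 2 * r) (hd : r ∣ U.index) : ¬ r ∣ Nat.card U := by
  intro h1
  have h3 : r ^ 2 ∣ m.factorial := by
    rw [← idx_mul h2 U, sq]
    exact (mul_dvd_mul hd h1).mul_left _
  have h4 : m.factorial ∣ (r - 1 + r).factorial := Nat.factorial_dvd_factorial (by omega)
  have h5 := h3.trans h4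
  have : Fact r.Prime := ⟨hr⟩
  rw [hr.pow_dvd_factorial_iff (b := 2) (Nat.log_lt_of_lt_pow (by have := hr.pos; omega) (by
    have := hr.two_le
    have : r * 2 ≤ r * r := Nat.mul_le_mul_left _ this
    rw [sq]
    omega))] at h5
  have h6 : (r - 1 + r) / r = 1 := by
    rw [Nat.add_div_right _ hr.pos, Nat.div_eq_of_lt (by have := hr.pos; omega)]
  simp [h6] at h5

theorem not_dvd_imp {r a b : ℕ} (hr : r.Prime) (h : m < 2 * r) (h1 : 2 ≤ a) (h2 : a < m) (h3 : m = a * b)
    (h4 : Nat.card U ∣ a.factorial ^ b * b.factorial) : ¬ r ∣ Nat.card U := by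
  intro h5
  have hb : 2 ≤ b := by
    by_contra h6
    obtain rfl | rfl : b = 0 ∨ b = 1 := by omega
    all_goals omega
  have h7 : 2 * b ≤ a * b := Nat.mul_le_mul_right _ h1
  have h8 : a * 2 ≤ a * b := Nat.mul_le_mul_left _ hb
  rcases (Nat.Prime.dvd_mul hr).1 (h5.trans h4) with h6 | h6
  · have := hr.dvd_factorial.1 (hr.dvd_of_dvd_pow h6)
    omega
  · have := hr.dvd_factorial.1 h6
    omega

/-- the element with a small ratio which the criterion `good_two` needs -/
def Two (U : Subgroup (alternatingGroup (Fin m))) : Prop :=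
  ∃ c, (c = 1 ∨ c = 2 ∨ c = 5) ∧ ∃ y, orderOf y = 2 * c + 3 ∧ (3 * c + 3) * fx U y ≤ c * U.index

theorem two_of_not_dvd {c : ℕ} (hc : c = 1 ∨ c = 2 ∨ c = 5) (h : 2 * c + 3 ≤ m) (h1 : ¬ 2 * c + 3 ∣ Nat.card U) : Two U := by
  obtain ⟨y, hy⟩ := exists_ord (p := 2 * c + 3) (by rcases hc with rfl | rfl | rfl <;> norm_num) (by omega) h
  exact ⟨c, hc, y, hy, by rw [fx_eq_zero_of_not_dvd (hy ▸ h1)]; omega⟩

theorem two_of_SW {c : ℕ} (hc : c = 1 ∨ c = 2 ∨ c = 5) (h : 2 * c + 3 ≤ m) {O : Finset (Fin m)} (h1 : 1 ≤ O.card)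
    (h2 : O.card < 2 * c + 3) (hU : U ≤ (SW O).subgroupOf _) (h3 : (3 * c + 3) * (m - (2 * c + 3)) ≤ c * m) : Two U := by
  have hp : (2 * c + 3).Prime := by rcases hc with rfl | rfl | rfl <;> norm_num
  obtain ⟨y, hy⟩ := exists_ord hp (by omega) h
  refine ⟨c, hc, y, hy, Nat.le_of_mul_le_mul_right ?_ (by omega : 0 < m)⟩
  have h4 := fx_SW (by simpa using (by omega : 3 ≤ m)) h1 hU hp h2 (hy ▸ pow_orderOf_eq_one y)
  have h5 := fix_add_le hp ((Subgroup.orderOf_coe y).trans hy)
  rw [Fintype.card_fin] at h4 h5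
  calc _ = (3 * c + 3) * (fx U y * m) := by ring
    _ ≤ (3 * c + 3) * ((m - (2 * c + 3)) * U.index) :=
      Nat.mul_le_mul_left _ (h4.trans (Nat.mul_le_mul_right _ (by omega)))
    _ = (3 * c + 3) * (m - (2 * c + 3)) * U.index := by ring
    _ ≤ c * m * U.index := Nat.mul_le_mul_right _ h3
    _ = _ := by ring

theorem two_ten {U : Subgroup (alternatingGroup (Fin 10))} {O : Finset (Fin 10)} (h1 : 1 ≤ O.card)
    (h2 : 2 * O.card ≤ 10) (hU : U ≤ (SW O).subgroupOf _) : Two U := by
  rcases (by omega : O.card < 5 ∨ O.card = 5) with h3 | h3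
  · let y : alternatingGroup (Fin 10) := ⟨finRotate 10 ^ 2, by rw [mem_alternatingGroup, map_pow, Int.units_sq]⟩
    have h4 : y ^ 5 = 1 := Subtype.ext (by decide)
    have h5 : ∀ i, (y : Perm (Fin 10)) i ≠ i := by decide
    have : Fact (Nat.Prime 5) := ⟨by norm_num⟩
    have h6 := fx_SW (by simp) h1 hU (by norm_num) h3 h4
    have h7 : Nat.card (fixedBy (Fin 10) (y : Perm (Fin 10))) = 0 := Nat.card_eq_zero.2 (Or.inl ⟨fun x => h5 _ x.2⟩)
    rw [h7, Fintype.card_fin] at h6
    exact ⟨1, Or.inl rfl, y, orderOf_eq_prime h4 fun h => h5 0 (by rw [h]; rfl), by omega⟩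
  · refine two_of_not_dvd (c := 2) (by simp) (by norm_num) (not_dvd_of_dvd_index (by norm_num) (by norm_num) (by norm_num) ?_)
    have h4 := index_SW (Γ := alternatingGroup (Fin 10)) le_rfl (by simp) O
    rw [Fintype.card_fin, h3] at h4
    exact Dvd.dvd.trans (h4 ▸ by decide) (index_dvd_of_le hU)

theorem fact_le : ∀ m ≤ 41, 9 ≤ m → m.factorial ≤ 2 ^ m.choose 2 ∧ 25 ≤ m.choose 2 := by
  simp only [Nat.choose_two_right]
  decide +kernel

theorem exists_r : ∀ m ≤ 41, 14 ≤ m → ∃ r, r.Prime ∧ 11 ≤ r ∧ m < 2 * r ∧ r + 3 ≤ m := by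
  intro m h1 h2
  by_cases h3 : m ≤ 21
  · exact ⟨11, by norm_num, le_rfl, by omega, by omega⟩
  by_cases h4 : m ≤ 25
  · exact ⟨13, by norm_num, by norm_num, by omega, by omega⟩
  by_cases h5 : m ≤ 33
  · exact ⟨17, by norm_num, by norm_num, by omega, by omega⟩
  · exact ⟨23, by norm_num, by norm_num, by omega, by omega⟩

theorem small_idx (h : m = 9 ∨ m = 10) (h1 : Nat.card U ≤ 3024 ∨ m = 10 ∧ Nat.card U ≤ 30240) : 60 ≤ U.index := by
  have h2 := idx_mul (by omega) U
  by_contra h3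
  have h4 : U.index * Nat.card U ≤ 59 * Nat.card U := Nat.mul_le_mul_right _ (by omega)
  have h5 : Nat.factorial 9 = 362880 := by decide
  have h6 : Nat.factorial 10 = 3628800 := by decide
  rcases h with rfl | rfl <;> omega

/-- **the subgroups of `A_m`** for the degrees where the general theorem on `p`-elements does not suffice -/
theorem core (h : m = 9 ∨ m = 10 ∨ m = 15 ∨ m = 16 ∨ 20 ≤ m) (h41 : m ≤ 41) (hU : U ≠ ⊤) (hm : U.index ≠ m) :
    (∃ y, (orderOf y).Prime ∧ 11 ≤ orderOf y ∧ fx U y = 0) ∨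
    (m.factorial ≤ 2 ^ U.index ∧ 25 ≤ U.index ∧ (20 ≤ m ∨ Two U)) := by
  have hc : Fintype.card (Fin m) = m := Fintype.card_fin m
  have hs : (m = 9 ∨ m = 10) → 60 ≤ U.index → m.factorial ≤ 2 ^ U.index ∧ 25 ≤ U.index := fun h1 h2 =>
    ⟨le_trans (by rcases h1 with rfl | rfl <;> norm_num [Nat.factorial]) (Nat.pow_le_pow_right two_pos h2), by omega⟩
  have hbig : 14 ≤ m → (∀ r, r.Prime → 11 ≤ r → m < 2 * r → r + 3 ≤ m → ¬ r ∣ Nat.card U) →
      ∃ y, (orderOf y).Prime ∧ 11 ≤ orderOf y ∧ fx U y = 0 := fun h1 h2 => by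
    obtain ⟨r, h3, h4, h5, h6⟩ := exists_r m h41 h1
    obtain ⟨y, rfl⟩ := exists_ord (m := m) h3 (by omega) (by omega)
    exact ⟨y, h3, h4, fx_eq_zero_of_not_dvd (h2 _ h3 h4 h5 h6)⟩
  rcases tri' (by omega) hU with ⟨O, h1, h2, h3⟩ | ⟨a, b, h1, h2, h3, h4⟩ | ⟨h1, h2⟩
  · rw [hc] at h2
    have h4 := idx_SW (by omega) hm h1 h2 h3
    obtain ⟨h5, h6⟩ := fact_le m h41 (by omega)
    refine Or.inr ⟨h5.trans (Nat.pow_le_pow_right two_pos h4), h6.trans h4, ?_⟩
    rcases h with rfl | rfl | rfl | rfl | h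
    · exact Or.inr (two_of_SW (c := 2) (by simp) (by norm_num) h1 (by omega) h3 (by norm_num))
    · exact Or.inr (two_ten h1 h2 h3)
    · exact Or.inr (two_of_SW (c := 5) (by simp) (by norm_num) h1 (by omega) h3 (by norm_num))
    · exact Or.inr (two_of_SW (c := 5) (by simp) (by norm_num) h1 (by omega) h3 (by norm_num))
    · exact Or.inl h
  · rw [hc] at h2 h3
    by_cases h5 : 14 ≤ m
    · exact Or.inl (hbig h5 fun r h6 _ h7 _ => not_dvd_imp h6 h7 h1 h2 h3 h4)
    have h6 : m = 9 ∨ m = 10 := by omega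
    have h7 := Nat.le_of_dvd (by positivity) h4
    obtain ⟨h8, h9⟩ := hs h6 (small_idx h6 (by
      have hb : b ≤ 5 := by
        have : 2 * b ≤ a * b := Nat.mul_le_mul_right _ h1
        omega
      have ha : a ≤ 9 := by omega
      interval_cases a <;> interval_cases b <;> simp [Nat.factorial] at h7 ⊢ <;> omega))
    exact Or.inr ⟨h8, h9, Or.inr (two_of_not_dvd (c := 2) (by simp) (by omega)
      (not_dvd_imp (by norm_num) (by omega) h1 h2 h3 h4))⟩
  · rw [hc] at h1 h2
    by_cases h5 : 14 ≤ m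
    · exact Or.inl (hbig h5 fun r h6 h7 h8 h9 => not_dvd_of_dvd_index h6 (by omega) h8 (h2 r h6 (by omega) h9))
    have h6 : m = 9 ∨ m = 10 := by omega
    obtain ⟨h8, h9⟩ := hs h6 (small_idx h6 (by
      rcases h6 with rfl | rfl <;> norm_num [Nat.factorial] at h1 ⊢ <;> omega))
    refine Or.inr ⟨h8, h9, Or.inr ?_⟩
    rcases h6 with rfl | rfl
    · exact two_of_not_dvd (c := 1) (by simp) (by norm_num)
        (not_dvd_of_dvd_index (by norm_num) (by norm_num) (by norm_num) (h2 5 (by norm_num) (by norm_num) (by norm_num)))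
    · exact two_of_not_dvd (c := 2) (by simp) (by norm_num)
        (not_dvd_of_dvd_index (by norm_num) (by norm_num) (by norm_num) (h2 7 (by norm_num) (by norm_num) (by norm_num)))

end alt

end Cfsg.Agent.N2.Alt.AS
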