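import Cfsg.Agent.N2.Alt.AS1
import Cfsg.Agent.S3578

/-!
# N2 (S3519), box AS, part 2: the reduction to three numerical criteria (helper42)
-/

set_option autoImplicit false
set_option linter.unusedSectionVars false

namespace Cfsg.Agent.N2.Alt.AS

open Equiv Equiv.Perm MulAction Subgroup Cfsg.Agent.FP3

variable {Ω : Type} [Fintype Ω] [DecidableEq Ω]

/-- S3578 for an alternating group -/
theorem pelA {N : Subgroup (Perm Ω)} (ht : IsPretransitive N Ω) {m : ℕ} (h9 : 9 ≤ m) (e : N ≃* alternatingGroup (Fin m))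
    {p : ℕ} (hp : p.Prime) (h2 : p ≠ 2) (hpm : p ≤ m) (h : m ≤ p + 1 ∨ p ^ 2 - p ≤ m) (h7 : ∀ k, p + 1 = 2 ^ k → k = 3) :
    ∃ x ∈ N, (∃ k, orderOf x = p ^ k) ∧ (p + 1) * nf x ≤ Fintype.card Ω := by
  have : Fact p.Prime := ⟨hp⟩
  have hs0 : IsSimpleGroup (alternatingGroup (Fin m)) := alternatingGroup.isSimpleGroup (by simp; omega)
  have hs : IsSimpleGroup N := e.isSimpleGroup
  have hc : 2 * Nat.card N = m.factorial := by
    rw [Nat.card_congr e.toEquiv, card_alt (by simp; omega), Fintype.card_fin]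
  obtain ⟨y, hy⟩ := exists_ord (m := m) hp h2 hpm
  have hy' : orderOf (e.symm y) = p := (e.symm.orderOf_eq y).trans hy
  have hq : ∀ (M : Subgroup N) [M.Normal], Nat.card (N ⧸ M) = 1 ∨ 2 * Nat.card (N ⧸ M) = m.factorial := fun M hM => by
    rcases hM.eq_bot_or_eq_top with rfl | rfl
    · exact Or.inr (by rw [← hc, ← index_eq_card, index_bot])
    · exact Or.inl (by rw [← index_eq_card, index_top])
  obtain ⟨x, h3, h4⟩ := S3578.result (G := N) (Ω := Ω) ht p (hy' ▸ orderOf_dvd_natCard _) (by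
    have hn : (closure {g : N | ∃ k : ℕ, orderOf g = p ^ k}).Normal := by
      refine ⟨fun g hg t => closure_induction (fun z hz => subset_closure ?_) (by simp) (fun a b _ _ h1 h2 => ?_)
        (fun a _ h1 => ?_) hg⟩
      · obtain ⟨k, hk⟩ := hz
        exact ⟨k, (orderOf_injective (MulAut.conj t).toMonoidHom (MulAut.conj t).injective z).trans hk⟩
      · rw [← conj_mul]
        exact mul_mem h1 h2
      · rw [← conj_inv]
        exact inv_mem h1
    refine hn.eq_bot_or_eq_top.resolve_left fun h1 => hp.ne_one ?_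
    have h5 : e.symm y ∈ closure {g : N | ∃ k : ℕ, orderOf g = p ^ k} := subset_closure ⟨1, by rw [hy', pow_one]⟩
    rw [h1, mem_bot] at h5
    rw [← hy', h5, orderOf_one])
    (fun M _ m' h1 h3 ⟨f⟩ => by
      have h4 := card_alt (α := Fin m') (by have := hp.pos; simp; omega)
      rw [← Nat.card_congr f.toEquiv, Fintype.card_fin] at h4
      rcases hq M with h5 | h5
      · have : Nat.factorial 3 ≤ m'.factorial := Nat.factorial_le (by have := hp.pos; omega)
        rw [← h4, h5] at this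
        simp [Nat.factorial] at this
      · have := (Nat.factorial_inj (by omega : 1 < m)).1 (h5.symm.trans h4)
        omega)
    (fun M _ k h1 ⟨f⟩ => by
      obtain rfl := h7 k h1
      have h4 := hq M
      rw [Nat.card_congr f.toEquiv] at h4
      rcases h4 with h5 | h5
      · have h6 := (Nat.card_eq_one_iff_unique.1 h5).1.elim
          (⟨!![1, 1; 0, 1], by simp [Matrix.det_fin_two]⟩ : Matrix.SpecialLinearGroup (Fin 2) (GaloisField 2 3)) 1
        have h8 := congrArg (fun A : Matrix.SpecialLinearGroup (Fin 2) (GaloisField 2 3) => A.1 0 1) h6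
        simp at h8
      · have h6 : Nat.card (Matrix.SpecialLinearGroup (Fin 2) (GaloisField 2 3)) ≤
            Nat.card (Fin 2 → Fin 2 → GaloisField 2 3) := Nat.card_le_card_of_injective Subtype.val Subtype.val_injective
        rw [Nat.card_fun, Nat.card_fun, GaloisField.card 2 3 (by norm_num), Nat.card_eq_fintype_card (α := Fin 2),
          Fintype.card_fin] at h6
        have h8 : Nat.factorial 9 ≤ m.factorial := Nat.factorial_le h9
        have h10 : Nat.factorial 9 = 362880 := by decide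
        omega)
  obtain ⟨k, hk⟩ := h3
  exact ⟨x, x.2, ⟨k, (Subgroup.orderOf_coe x).trans hk⟩, by rw [← Nat.card_eq_fintype_card]; exact h4⟩

theorem fact_lt : ∀ n < 49, 42 < n → 2 * n.factorial < Nat.factorial 42 * ((n + 1) / 2).factorial := by
  decide +kernel

/-- **the reduction** -/
theorem red {H N : Subgroup (Perm Ω)} {m : ℕ} (h9 : 9 ≤ m) (hN : NF H N) (e : N ≃* alternatingGroup (Fin m))
    (hH : Nat.card H ≤ m.factorial) :
    ∃ x ∈ N, (∃ p, p.Prime ∧ 11 ≤ p ∧ (∃ i, orderOf x = p ^ i) ∧ (p + 1) * nf x ≤ Fintype.card Ω) ∨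
      ((∃ i, orderOf x = 7 ^ i) ∧ 8 * nf x ≤ Fintype.card Ω ∧ 49 ≤ Fintype.card Ω) ∨
      (Nat.card (al H) ≤ 2 ^ Fintype.card Ω ∧ 25 ≤ Fintype.card Ω ∧ ∃ c, (c = 1 ∨ c = 2 ∨ c = 5) ∧
        (∃ i, orderOf x = (2 * c + 3) ^ i) ∧ (3 * c + 3) * nf x ≤ c * Fintype.card Ω) := by
  have ht := hN.tr
  have hc : 2 * Nat.card N = m.factorial := by
    rw [Nat.card_congr e.toEquiv, card_alt (by simp; omega), Fintype.card_fin]
  have h7 := hN.card
  have hA := card_alt (α := Ω) (by omega)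
  have hlt : m < Fintype.card Ω := by
    by_contra h1
    have h2 : (Fintype.card Ω).factorial ≤ m.factorial := Nat.factorial_le (by omega)
    exact hN.nle ((eq_of_le_of_card_ge hN.even (by omega)).ge.trans hN.le)
  have big : ∀ p, p.Prime → 11 ≤ p → p ≤ m → m ≤ p + 1 → (∀ k, p + 1 ≠ 2 ^ k) → ∃ x ∈ N, ∃ p, p.Prime ∧ 11 ≤ p ∧
      (∃ i, orderOf x = p ^ i) ∧ (p + 1) * nf x ≤ Fintype.card Ω := fun p h1 h2 h3 h4 h5 => by
    obtain ⟨x, h6, h8, h10⟩ := pelA ht h9 e h1 (by omega) h3 (Or.inl h4) fun k hk => absurd hk (h5 k)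
    exact ⟨x, h6, p, h1, h2, h8, h10⟩
  have hpow : ∀ a b k : ℕ, b ≠ 1 → Odd b → 2 ^ a * b ≠ 2 ^ k := fun a b k h1 h2 h3 =>
    h1 ((Nat.Coprime.pow_right k h2.coprime_two_right).eq_one_of_dvd (h3 ▸ dvd_mul_left _ _))
  by_cases h42 : 42 ≤ m
  · obtain ⟨x, h1, h2, h3⟩ := pelA ht h9 e (p := 7) (by norm_num) (by norm_num) (by omega) (Or.inr (by omega))
      fun k hk => (Nat.pow_right_injective le_rfl (hk.symm.trans (by norm_num : 7 + 1 = 2 ^ 3)))
    refine ⟨x, h1, Or.inr (Or.inl ⟨h2, h3, ?_⟩)⟩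
    by_contra h4
    have h5 := fact_lt _ (not_le.1 h4) (by omega)
    have h6 := H427.bochert H hN.prim hN.nle
    have h8 : Nat.factorial 42 ≤ 2 * Nat.card H :=
      (Nat.factorial_le h42).trans (hc ▸ Nat.mul_le_mul_left _ (card_le_of_le hN.le))
    have h10 := Nat.mul_le_mul_right ((Fintype.card Ω + 1) / 2).factorial h8
    rw [mul_assoc] at h10
    omega
  by_cases hm : m = 11 ∨ m = 12 ∨ m = 13 ∨ m = 14 ∨ m = 17 ∨ m = 18 ∨ m = 19
  · obtain ⟨x, h1, h2⟩ : ∃ x ∈ N, ∃ p, p.Prime ∧ 11 ≤ p ∧ (∃ i, orderOf x = p ^ i) ∧ (p + 1) * nf x ≤ Fintype.card Ω := by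
      rcases (by omega : (11 ≤ m ∧ m ≤ 12) ∨ (13 ≤ m ∧ m ≤ 14) ∨ (17 ≤ m ∧ m ≤ 18) ∨ m = 19) with h | h | h | h
      · exact big 11 (by norm_num) le_rfl h.1 h.2 fun k => hpow 2 3 k (by norm_num) (by decide)
      · exact big 13 (by norm_num) (by norm_num) h.1 h.2 fun k => hpow 1 7 k (by norm_num) (by decide)
      · exact big 17 (by norm_num) (by norm_num) h.1 h.2 fun k => hpow 1 9 k (by norm_num) (by decide)
      · exact big 19 (by norm_num) (by norm_num) h.ge (by omega) fun k => hpow 2 5 k (by norm_num) (by decide)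
    exact ⟨x, h1, Or.inl h2⟩
  obtain ⟨ω⟩ : Nonempty Ω := Fintype.card_pos_iff.1 (by omega)
  let U : Subgroup (alternatingGroup (Fin m)) := (stabilizer N ω).comap e.symm.toMonoidHom
  have hi : U.index = Fintype.card Ω := by
    rw [index_comap_of_surjective _ e.symm.surjective, index_stabilizer_of_transitive, Nat.card_eq_fintype_card]
  have hf : ∀ y, fx U y = nf (e.symm y : Perm Ω) := fun y => by
    rw [fx_comap e.symm, ← card_fixedBy_eq]
    rfl
  have ho : ∀ y, orderOf (e.symm y : Perm Ω) = orderOf y ^ 1 := fun y => by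
    rw [Subgroup.orderOf_coe, e.symm.orderOf_eq, pow_one]
  rcases core (U := U) (by omega) (by omega) (fun h => by rw [h, index_top] at hi; omega) (by omega) with
    ⟨y, h1, h2, h3⟩ | ⟨h1, h2, h3⟩
  · exact ⟨_, (e.symm y).2, Or.inl ⟨_, h1, h2, ⟨1, ho y⟩, by rw [← hf, h3]; omega⟩⟩
  rw [hi] at h1 h2
  have h4 : Nat.card (al H) ≤ 2 ^ Fintype.card Ω := by
    refine le_trans (Nat.card_le_card_of_injective (fun a : al H => (⟨a.1.1, a.2⟩ : H)) fun a b h => ?_) (hH.trans h1)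
    exact Subtype.ext (Subtype.ext (Subtype.mk.inj h))
  rcases h3 with h3 | ⟨c, h3, y, h5, h6⟩
  · obtain ⟨x, h5, h6, h8⟩ := pelA ht h9 e (p := 5) (by norm_num) (by norm_num) (by omega) (Or.inr (by omega))
      fun k hk => absurd hk (hpow 1 3 k (by norm_num) (by decide))
    exact ⟨x, h5, Or.inr (Or.inr ⟨h4, h2, 1, Or.inl rfl, h6, by omega⟩)⟩
  · exact ⟨_, (e.symm y).2, Or.inr (Or.inr ⟨h4, h2, c, h3, ⟨1, h5 ▸ ho y⟩, by rw [← hf, ← hi]; exact h6⟩)⟩

end Cfsg.Agent.N2.Alt.AS
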