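import Cfsg.Agent.N2.Tool
import Cfsg.Agent.TH.Sim.AltSub
import Cfsg.Agent.TH.Alt.Impr

/-!
# N2 (S3519), alternating groups: the boxes (helper51)

`T = Alt(Ω)`, `|Ω| ≥ 7`, `H ≤ Sym(Ω)`, `A = H ∩ T`.
-/

set_option autoImplicit false

namespace Cfsg.Agent.N2.Alt

open Equiv Equiv.Perm MulAction Subgroup Cfsg.Agent.FP3

section

variable {Ω : Type} [Fintype Ω] [DecidableEq Ω]

/-- `H ∩ Alt(Ω)` as a subgroup of `Alt(Ω)` -/
abbrev al (H : Subgroup (Perm Ω)) : Subgroup (alternatingGroup Ω) := H.subgroupOf (alternatingGroup Ω)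

/-- the number of fixed points -/
noncomputable def nf (x : Perm Ω) : ℕ := Nat.card (fixedBy Ω x)

/-- a primitive group of degree at least 7 which does not contain the alternating group -/
structure Pr (H : Subgroup (Perm Ω)) : Prop where
  card : 7 ≤ Fintype.card Ω
  prim : IsPreprimitive H Ω
  nle : ¬ alternatingGroup Ω ≤ H

/-- `N` is a transitive subgroup of `H ∩ Alt(Ω)` -/
structure NF (H N : Subgroup (Perm Ω)) : Prop extends Pr H where
  le : N ≤ H
  even : N ≤ alternatingGroup Ω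
  tr : IsPretransitive N Ω

end

/-- the bound for the centraliser of a `p`-element with `f` fixed points on `f + p j` points -/
def cb (p f j : ℕ) : ℕ := f.factorial * p ^ j * j.factorial

/-- the stabiliser of a subset -/
def BoxIntr : Prop := ∀ (Ω : Type) [Fintype Ω] [DecidableEq Ω] (O : Finset Ω), 7 ≤ Fintype.card Ω → 1 ≤ O.card →
  2 * O.card < Fintype.card Ω → Good (al (TH.Alt.SW O))

/-- the stabiliser of a partition into `b` blocks of size `k` -/
def BoxImp : Prop := ∀ (Ω : Type) [Fintype Ω] [DecidableEq Ω] (b k : ℕ) (f : Ω → Fin b), 7 ≤ Fintype.card Ω → 2 ≤ b →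
  2 ≤ k → (∀ i, Nat.card {a // f a = i} = k) → Good (al (TH.Alt.Par f))

/-- the affine group -/
def BoxAff : Prop := ∀ (Ω : Type) [Fintype Ω] [DecidableEq Ω] (V : Subgroup (Perm Ω)) (p : ℕ), p.Prime →
  (∀ v ∈ V, v ^ p = 1) → (∀ v ∈ V, ∀ w ∈ V, v * w = w * v) → NF (normalizer (V : Set (Perm Ω))) V →
  Good (al (normalizer (V : Set (Perm Ω))))

/-- almost simple groups with an alternating socle of degree at least 9 -/
def BoxAS : Prop := ∀ (Ω : Type) [Fintype Ω] [DecidableEq Ω] (H N : Subgroup (Perm Ω)) (m : ℕ), 9 ≤ m → NF H N →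
  Nonempty (N ≃* alternatingGroup (Fin m)) → Nat.card H ≤ m.factorial → Good (al H)

/-- a non-abelian minimal normal subgroup -/
def BoxNA : Prop := ∀ (Ω : Type) [Fintype Ω] [DecidableEq Ω] (H : Subgroup (Perm Ω)) (N : Subgroup H) [N.Normal],
  NF H (N.map H.subtype) → (∀ M : Subgroup H, M.Normal → M ≤ N → M = ⊥ ∨ M = N) → (¬ ∀ x ∈ N, ∀ y ∈ N, Commute x y) →
  Good (al H)

end Cfsg.Agent.N2.Alt
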