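import Cfsg.Agent.N2.Alt.Defs

/-!
# N2 (S3519), box Intr: the stabiliser of a subset (helper42)
-/

set_option autoImplicit false
set_option linter.unusedSectionVars false

namespace Cfsg.Agent.N2.Alt

open Equiv Equiv.Perm MulAction Subgroup Cfsg.Agent.FP3 Cfsg.Agent.TH.Alt

namespace In

variable {Ω : Type} [Fintype Ω] [DecidableEq Ω]

/-- `a` stabilises only one subset of the size of `O` -/
theorem good_of_uniq {O : Finset Ω} {a : Perm Ω} (h1 : sign a = 1) (h2 : a ∈ SW O)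
    (h3 : ∀ S : Finset Ω, S.card = O.card → a ∈ SW S → S ⊆ O) : Good (al (SW O)) := by
  refine good_of_one (a := ⟨a, h1⟩) h2 (fx_le_one fun t ht => ?_)
  have hS : ∀ x, x ∈ O.map t.1.toEmbedding ↔ t.1⁻¹ x ∈ O := fun x => Finset.mem_map_equiv
  have h4 := Finset.eq_of_subset_of_card_le (h3 (O.map t.1.toEmbedding) (Finset.card_map _) fun x => by
    have h5 : t.1⁻¹ (a (t.1 (t.1⁻¹ x))) ∈ O ↔ t.1⁻¹ x ∈ O := ht (t.1⁻¹ x)
    rw [hS, hS, ← h5, ap_inv]) (Finset.card_map _).ge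
  intro x
  change t.1 x ∈ O ↔ x ∈ O
  conv_lhs => rw [← h4, hS, inv_ap]

theorem sub_of_cycle {O S : Finset Ω} {c d : Perm Ω} (hd : d.IsCycleOn (Oᶜ : Finset Ω)) (hs : d.support ⊆ Oᶜ)
    (hc : ∀ x ∉ O, c x = x) (h : c * d ∈ SW S) (hlt : S.card < Oᶜ.card) : S ⊆ O := by
  have h1 : d ∈ SW S := fun x => by
    by_cases hx : x ∈ O
    · rw [notMem_support.1 fun h => Finset.mem_compl.1 (hs h) hx]
    · rw [← h x, mul_apply, hc _ (Finset.mem_compl.1 (hd.1.mapsTo (Finset.mem_compl.2 hx)))]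
  intro x hx
  by_contra h2
  refine absurd (Finset.card_le_card fun y hy => ?_) hlt.not_ge
  obtain ⟨n, -, rfl⟩ := hd.exists_pow_eq (Finset.mem_compl.2 h2) hy
  exact ((SW S).pow_mem h1 n x).2 hx

end In

theorem boxIntr : BoxIntr := by
  intro Ω _ _ O h7 h1 h2
  obtain ⟨d, hd, hs⟩ := Oᶜ.exists_cycleOn
  have hc := Finset.card_add_card_compl O
  have h3 : d ∈ SW O := fun x => by
    have := hd.apply_mem_iff (x := x)
    simpa [not_iff_not] using this
  rcases h1.eq_or_lt with h4 | h4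
  · refine In.good_of_uniq (a := d ^ 2) (by rw [map_pow, Int.units_sq]) ((SW O).pow_mem h3 2) fun S h5 h6 x hx => ?_
    by_contra h8
    have h9 := (hd.pow_apply_eq (Finset.mem_compl.2 h8)).1 (Finset.card_le_one.1 (by omega) _ ((h6 x).2 hx) _ hx)
    have := Nat.le_of_dvd two_pos h9
    omega
  rcases Int.units_eq_one_or (sign d) with h5 | h5
  · exact In.good_of_uniq h5 h3 fun S h6 h8 => In.sub_of_cycle (c := 1) hd hs (fun _ _ => rfl) (by rwa [one_mul]) (by omega)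
  · obtain ⟨x, hx, y, hy, hxy⟩ := Finset.one_lt_card.1 h4
    refine In.good_of_uniq (a := swap x y * d) (by rw [map_mul, sign_swap hxy, h5]; simp)
      ((SW O).mul_mem (swap_mem_SW (iff_of_true hx hy)) h3) fun S h6 h8 => In.sub_of_cycle hd hs (fun z hz => ?_) h8 (by omega)
    exact swap_apply_of_ne_of_ne (fun h => hz (h ▸ hx)) fun h => hz (h ▸ hy)

end Cfsg.Agent.N2.Alt
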