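import Cfsg.Agent.N2.Alt.Tab
import Cfsg.Agent.N2.Alt.AS
import Cfsg.Agent.S2119
import Cfsg.Agent.H901.Caps
import Cfsg.Agent.H901.MinDeg

/-!
# N2 (S3519), alternating groups: almost simple primitive groups (helper51)
-/

set_option autoImplicit false
set_option maxRecDepth 100000
set_option linter.unusedSectionVars false

namespace Cfsg.Agent.N2.Alt

open Equiv Equiv.Perm MulAction Subgroup Cfsg.Agent.FP3 Nat

/-- a multiple of the order of the normaliser in the alternating group -/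
def cm (p f j : ℕ) : ℕ := (p - 1) * if 2 ≤ f ∨ 2 ≤ j then cb p f j / 2 else cb p f j

/-- the check for one cycle type -/
def chk (a n p f j : ℕ) : Prop :=
  2 * cb p f j ^ 3 * a ≤ n ! ∨ (¬ p ^ 2 ∣ a ∧ 2 * (cm p f j / (p * 3)) ^ 3 * a ≤ n ! ∧
    ∀ k < 3, p * k ∣ a → a / (p * k) % p = 1 → 2 * (cm p f j / (p * k)) ^ 3 * a ≤ n !)

/-- the check for all cycle types -/
def sv (a n p c : ℕ) : Prop := ∀ j < 10, p * j ≤ n → n - p * j ≤ c * j → chk a n p (n - p * j) j

/-- the prime `p` is not exceptional, by the order -/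
def neo (p s : ℕ) : Prop := p ∣ s ∧ (∀ m < p ^ 2 - p, p + 1 < m → 2 * s ≠ m !) ∧
  ∀ k ≤ p, p + 1 = 2 ^ k → s ≠ 2 ^ k * ((2 ^ k) ^ 2 - 1)

/-- the numerical conditions for a primitive group -/
def adm (a n : ℕ) : Prop := 7 ≤ n ∧ a * ((n + 1) / 2)! ≤ n ! ∧ a ∣ n ! ∧ ¬ (n = 10 ∧ 81 ∣ a)

instance decChk (a n p f j : ℕ) : Decidable (chk a n p f j) := by unfold chk; infer_instance
instance decSv (a n p c : ℕ) : Decidable (sv a n p c) := by unfold sv; infer_instance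
instance decNeo (p s : ℕ) : Decidable (neo p s) := by unfold neo; infer_instance
instance decAdm (a n : ℕ) : Decidable (adm a n) := by unfold adm; infer_instance

theorem neo.ne {T : Type*} [Group T] {p : ℕ} (h : neo p (Nat.card T)) (hp : 1 ≤ p) : NE p T := NE_of_card hp h.2.1 h.2.2

/-- the orders which are left -/
def L8 : List (ℕ × ℕ) :=
  [(60, 2), (360, 4), (25920, 2), (168, 2), (2520, 2), (6048, 2), (20160, 12), (58800, 4), (126000, 6), (604800, 2),
    (1451520, 1), (3265920, 8), (138297600, 2), (174182400, 6)]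

theorem L7_L8 : ∀ e ∈ L7, e.1 = .alt 9 ∨ e.1 = .alt 10 ∨ e.2 = (504, 3) ∨ ∃ d ∈ L8, e.2.1 = d.1 ∧ e.2.2 ∣ d.2 := by
  decide +kernel

theorem L8_neo : ∀ d ∈ L8, (0 < d.2 ∧ d.2 ≤ 12) ∧ (neo 7 d.1 ∨ neo 5 d.1 ∧ d.2 * d.1 ≤ 2 ^ 25) := by decide +kernel

/-- the check for a socle, a degree and an order -/
def fin (s o n a : ℕ) : Prop := adm a n → neo 7 s ∧ sv a n 7 1 ∨ neo 5 s ∧ (25 ≤ n ∧ o * s ≤ 2 ^ 25 ∨ sv a n 5 1)

instance decFin (s o n a : ℕ) : Decidable (fin s o n a) := by unfold fin; infer_instance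

theorem L8_sv : ∀ d ∈ L8, ∀ n < 49, n ∣ d.1 → ∀ t ≤ 12, t ∣ d.2 → fin d.1 d.2 n (d.1 * t) := by decide +kernel

theorem L28_sv : ∀ n < 25, n ∣ 504 → ∀ t ≤ 3, t ∣ 3 → adm (504 * t) n → sv (504 * t) n 7 2 := by decide +kernel

theorem L28_f : ∀ n ≤ 72, n ∣ 72 → ∀ f < n, f ∣ 72 → f % 7 = n % 7 → 9 * f ≤ 2 * n := by decide +kernel

theorem L28_e : ∀ e ≤ 504, e ∣ 504 → 7 ∣ e → e / 7 ∣ 72 := by decide +kernel

variable {Ω : Type} [Fintype Ω] [DecidableEq Ω] {H N : Subgroup (Perm Ω)} {x : Perm Ω} {p i j c : ℕ}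

theorem good_chk (h2 : 2 ≤ Fintype.card Ω) (hx : x ∈ H) (hp : p.Prime) (hp2 : p ≠ 2) (ho : orderOf x = p ^ i)
    (hn : Fintype.card Ω = nf x + p * j) (hf : nf x < Fintype.card Ω)
    (h : chk (Nat.card (al H)) (Fintype.card Ω) p (nf x) j) : Good (al H) := by
  rcases h with h | ⟨h1, h3, h4⟩
  · exact good_cb h2 hx hp hp2 ho hn h
  have he := even_of_odd hp hp2 ho
  have ho' : orderOf x = p := orderOf_eq ho hf (G := (al H).map (alternatingGroup Ω).subtype) ⟨⟨x, he⟩, hx, rfl⟩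
    (by rwa [card_map_of_injective (subtype_injective _)])
  have ho2 : orderOf (⟨x, he⟩ : alternatingGroup Ω) = p := by rw [← ho', ← orderOf_coe]
  have k1 := syl (A := al H) (a := ⟨x, he⟩) hx hp ho2 h1
  obtain ⟨k, k2⟩ := dvd_nA (A := al H) (a := ⟨x, he⟩) hx ho2
  have k3 := nA_mod (A := al H) (a := ⟨x, he⟩) hx hp ho2 h1
  have k4 := nA_dvd (al H) ⟨x, he⟩
  have k5 : nn (⟨x, he⟩ : alternatingGroup Ω) ≤ cm p (nf x) j := by
    refine (Nat.le_of_dvd (Nat.mul_pos (by have := hp.two_le; omega) Nat.card_pos) (nn_dvd hp ho2)).trans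
      (Nat.mul_le_mul_left _ ?_)
    split_ifs with k5
    · have := cn_prime he hp ho' hn k5
      change cn _ ≤ _
      omega
    · exact (cn_le he).trans (cen_eq hp ho' hn).le
  have k6 := nA_pos (al H) ⟨x, he⟩
  rw [k2] at k1 k3 k4 k6
  have k7 : fx (al H) ⟨x, he⟩ ≤ cm p (nf x) j / (p * k) := (Nat.le_div_iff_mul_le k6).2 (k1 ▸ k5)
  rcases lt_or_ge k 3 with k8 | k8
  · exact good_fx h2 hx he k7 (h4 k k8 k4 k3)
  · exact good_fx h2 hx he (k7.trans (Nat.div_le_div_left (Nat.mul_le_mul_left _ k8) (Nat.mul_pos hp.pos (by norm_num)))) h3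

theorem good_sv (h7 : 7 ≤ Fintype.card Ω) (h49 : Fintype.card Ω < 49) (hx : x ∈ H) (hp : p.Prime) (h5 : 5 ≤ p)
    (ho : orderOf x = p ^ i) (hf : (p + c) * nf x ≤ c * Fintype.card Ω)
    (h : sv (Nat.card (al H)) (Fintype.card Ω) p c) : Good (al H) := by
  obtain ⟨j, hj⟩ := exists_j hp ho
  have h1 : nf x ≤ c * j := Nat.le_of_mul_le_mul_left (by rw [hj] at hf; nlinarith) hp.pos
  have h2 : Fintype.card Ω - p * j = nf x := by omega
  have h3 : j ≠ 0 := by
    rintro rfl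
    omega
  have h4 : 5 * j ≤ p * j := Nat.mul_le_mul_right _ h5
  exact good_chk (by omega) hx hp (by omega) ho hj (by omega) (h2 ▸ h j (by omega) (by omega) (h2 ▸ h1))

theorem Pr.adm (h : Pr H) : adm (Nat.card (al H)) (Fintype.card Ω) := by
  have h7 := h.card
  refine ⟨h7, h.boch, ?_, fun ⟨h1, h2⟩ => ?_⟩
  · rw [← two_mul_card (by omega)]
    exact (card_subgroup_dvd_card _).mul_left _
  · have : Fact (Nat.Prime 3) := ⟨Nat.prime_three⟩
    have h3 := H901.Caps.cap_one 3 (by omega) H fun g hg hg1 => H901.MinDeg.three_lt_support H h.prim h.nle g hg hg1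
    have h4 : 4 ≤ (Nat.card H).factorization 3 :=
      (Nat.prime_three.pow_dvd_iff_le_factorization Nat.card_pos.ne').1 (h2.trans (card_al_dvd H))
    rw [h1] at h3
    exact absurd ((Nat.prime_three.pow_dvd_iff_le_factorization (factorial_ne_zero 10)).2 (show 5 ≤ _ by omega))
      (by decide +kernel)

theorem NF.exists_t (h : NF H N) {o : ℕ} (ho : Nat.card H ∣ o * Nat.card N) :
    ∃ t, t ∣ o ∧ Nat.card (al H) = Nat.card N * t := by
  obtain ⟨t, ht⟩ := h.card_dvd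
  refine ⟨t, Nat.dvd_of_mul_dvd_mul_left (Nat.card_pos (α := N)) ?_, ht⟩
  rw [← ht, mul_comm]
  exact (card_al_dvd H).trans ho

variable [IsSimpleGroup N]

theorem NF.good_L8 (h : NF H N) {d : ℕ × ℕ} (hd : d ∈ L8) (hs : Nat.card N = d.1) (ho : Nat.card H ∣ d.2 * Nat.card N) :
    Good (al H) := by
  obtain ⟨t, h1, h2⟩ := h.exists_t ho
  obtain ⟨⟨h0, h3⟩, h4⟩ := L8_neo d hd
  have h7 := h.card
  have five : neo 5 d.1 → 25 ≤ Fintype.card Ω → d.2 * d.1 ≤ 2 ^ 25 → Good (al H) := fun k1 k2 k3 => by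
    rw [← hs] at k1
    obtain ⟨x, hx, ⟨i, k4⟩, k5⟩ := h.pel (by norm_num) k1.1 (k1.ne (by norm_num))
    refine good_two (c := 1) (by norm_num) (h.le hx) k4 (by omega) k2 (le_trans ?_ (Nat.pow_le_pow_right two_pos k2))
    rw [h2, hs, mul_comm]
    exact (Nat.mul_le_mul_right _ (Nat.le_of_dvd h0 h1)).trans k3
  rcases lt_or_ge (Fintype.card Ω) 49 with hn | hn
  · have h5 := L8_sv d hd _ hn (hs ▸ h.deg_dvd) t ((Nat.le_of_dvd h0 h1).trans h3) h1 (by rw [← hs, ← h2]; exact h.adm)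
    rw [← hs, ← h2] at h5
    rcases h5 with ⟨k1, k2⟩ | ⟨k1, ⟨k2, k3⟩ | k2⟩
    · obtain ⟨x, hx, ⟨i, k4⟩, k5⟩ := h.pel (by norm_num) k1.1 (k1.ne (by norm_num))
      exact good_sv h7 hn (h.le hx) (by norm_num) (by norm_num) k4 (by omega) k2
    · exact five (hs ▸ k1) k2 (hs ▸ k3)
    · obtain ⟨x, hx, ⟨i, k4⟩, k5⟩ := h.pel (by norm_num) k1.1 (k1.ne (by norm_num))
      exact good_sv h7 hn (h.le hx) (by norm_num) le_rfl k4 (by omega) k2
  · rcases h4 with k1 | ⟨k1, k2⟩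
    · rw [← hs] at k1
      obtain ⟨x, hx, ⟨i, k4⟩, k5⟩ := h.pel (by norm_num) k1.1 (k1.ne (by norm_num))
      exact good_seven h.toPr (h.le hx) k4 k5 hn
    · exact five k1 (by omega) k2

theorem NF.good_504 (h : NF H N) (hs : Nat.card N = 504) (ho : Nat.card H ∣ 3 * Nat.card N) : Good (al H) := by
  obtain ⟨t, h1, h2⟩ := h.exists_t ho
  have h7 := h.card
  have := h.tr
  obtain ⟨x, hx, ⟨i, k1⟩, k2⟩ := h.hel (p := 7) (by norm_num) (by rw [hs]; norm_num)
  have k3 : orderOf x = 7 := orderOf_eq k1 (by omega) hx (by rw [hs]; norm_num)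
  have k4 : orderOf (⟨x, hx⟩ : N) = 7 := by rw [← k3, ← orderOf_coe]
  have hn := hs ▸ h.deg_dvd
  have k5 : 9 * nf x ≤ 2 * Fintype.card Ω := by
    obtain ⟨j, hj⟩ := exists_j (by norm_num) k1
    rcases fix_syl (Ω := Ω) (by norm_num) k4 (by rw [hs]; norm_num) with k5 | ⟨_, ⟨e, rfl⟩, k5⟩
    · rw [nf_coe] at k5
      change nf x = 0 at k5
      omega
    · rw [nf_coe] at k5
      change nf x * _ = _ at k5
      have k6 : nf x ∣ 72 := by
        refine Nat.dvd_of_mul_dvd_mul_left (show 0 < 7 by norm_num) (dvd_trans ⟨e, ?_⟩ (hs ▸ nn_dvd_card (⟨x, hx⟩ : N)))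
        rw [← k5]
        ring
      have k7 : Nat.Coprime (Fintype.card Ω) 7 := by
        rw [Nat.coprime_comm, Nat.Prime.coprime_iff_not_dvd (by norm_num)]
        intro k7
        exact absurd ((show 7 ∣ nf x by omega).trans k6) (by norm_num)
      have k8 : Fintype.card Ω ∣ 72 := k7.dvd_of_dvd_mul_left hn
      exact L28_f _ (Nat.le_of_dvd (by norm_num) k8) k8 _ (by omega) k6 (by omega)
  have h3 := Nat.le_of_dvd (by norm_num) h1
  rcases lt_or_ge (Fintype.card Ω) 25 with k6 | k6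
  · refine good_sv (c := 2) h7 (by omega) (h.le hx) (by norm_num) (by norm_num) k1 k5 ?_
    rw [h2, hs]
    exact L28_sv _ k6 hn t h3 h1 (by rw [← hs, ← h2]; exact h.adm)
  · refine good_two (c := 2) (by norm_num) (h.le hx) k1 k5 k6 (le_trans ?_ (Nat.pow_le_pow_right two_pos k6))
    rw [h2, hs]
    omega

theorem NF.good_alt (h : NF H N) (hA : Nat.card H ∣ Nat.card (MulAut N)) {m : ℕ} (hm : 9 ≤ m)
    (e : Nonempty (N ≃* alternatingGroup (Fin m))) : Good (al H) := by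
  refine boxAS Ω H N m hm h e (Nat.le_of_dvd (factorial_pos m) ?_)
  obtain ⟨e⟩ := e
  rwa [Nat.card_congr (MulAut.congr e).toEquiv, ← Nat.card_eq_of_bijective _ (S2119.result m (by omega) (by omega)),
    Nat.card_perm, Nat.card_eq_fintype_card (α := Fin m), Fintype.card_fin] at hA

theorem NF.good_simple (h : NF H N) (hna : ¬ ∀ a b : N, a * b = b * a) (hA : Nat.card H ∣ Nat.card (MulAut N)) :
    Good (al H) := by
  rcases kind hna with ⟨p, h1, h2, h3, h4⟩ | ⟨m, h1, h2⟩ | ⟨e, h1, h2, h3, h4⟩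
  · obtain ⟨x, hx, ⟨i, k1⟩, k2⟩ := h.pel h1 h3 h4
    exact good_big h.toPr (h.le hx) h1 h2 k1 k2
  · exact h.good_alt hA (by omega) h2
  · have h5 := hA.trans h4
    rcases L7_L8 e h1 with k | k | k | ⟨d, k1, k2, k3⟩
    · rw [k] at h2
      exact h.good_alt hA le_rfl h2
    · rw [k] at h2
      exact h.good_alt hA (by norm_num) h2
    · rw [k] at h3 h5
      exact h.good_504 h3 (h3 ▸ h5)
    · exact h.good_L8 k1 (h3.trans k2) (h5.trans (h3 ▸ Nat.mul_dvd_mul_right k3 _))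

/-- **a simple normal subgroup with trivial centraliser** -/
theorem naOne {H : Subgroup (Perm Ω)} {N : Subgroup H} [N.Normal] (h : NF H (N.map H.subtype))
    (hna : ¬ ∀ x ∈ N, ∀ y ∈ N, Commute x y) (hs : IsSimpleGroup N) (hc : centralizer (N : Set H) = ⊥) : Good (al H) := by
  let e : N ≃* N.map H.subtype := equivMapOfInjective N H.subtype (subtype_injective _)
  have : IsSimpleGroup (N.map H.subtype) := e.symm.isSimpleGroup
  refine h.good_simple (fun k => hna fun x hx y hy => ?_) ?_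
  · have := e.injective ((map_mul e _ _).trans ((k (e ⟨x, hx⟩) (e ⟨y, hy⟩)).trans (map_mul e _ _).symm))
    exact congrArg Subtype.val this
  · rw [← Nat.card_congr (MulAut.congr e).toEquiv]
    refine card_dvd_of_injective (MulAut.conjNormal (H := N)) ((injective_iff_map_eq_one _).2 fun g hg => ?_)
    rw [← mem_bot, ← hc, mem_centralizer_iff]
    intro y hy
    have h1 : g * y * g⁻¹ = y := (MulAut.conjNormal_apply g ⟨y, hy⟩).symm.trans
      (congrArg Subtype.val (DFunLike.congr_fun hg ⟨y, hy⟩))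
    rw [← h1, inv_mul_cancel_right, h1]

end Cfsg.Agent.N2.Alt
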