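import Cfsg.Agent.N2.Alt.Cen
import Cfsg.Agent.PermutationGroups.OnanScott
import Cfsg.Agent.H936.AutPow

/-!
# N2 (S3519), box NA, product and diagonal types: the structure (helper42)
-/

set_option autoImplicit false
set_option linter.unusedSectionVars false

namespace Cfsg.Agent.N2.Alt.NP

open Equiv Equiv.Perm MulAction Subgroup Cfsg.Agent.FP3

section pi

variable {T ι : Type*} [Group T] [Finite T] [Fintype ι]

theorem fx_pi (L : ι → Subgroup T) (a : ι → T) : fx (Subgroup.pi Set.univ L) a ≤ ∏ i, fx (L i) (a i) := by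
  let φ : (ι → T) ⧸ Subgroup.pi Set.univ L → ∀ i, T ⧸ L i := Quotient.lift (fun t i => (t i : T ⧸ L i)) fun s t h =>
    funext fun i => QuotientGroup.eq.2 (QuotientGroup.leftRel_apply.1 h i (Set.mem_univ i))
  unfold fx
  rw [← Nat.card_pi]
  refine Nat.card_le_card_of_injective (fun x i => ⟨φ x.1 i, ?_⟩) ?_
  · obtain ⟨x, hx⟩ := x
    induction x using QuotientGroup.induction_on with | H t => ?_
    exact (smul_mk_iff (L i) (a i) (t i)).2 ((smul_mk_iff _ a t).1 hx i (Set.mem_univ i))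
  · rintro ⟨x, hx⟩ ⟨y, hy⟩ h
    induction x using QuotientGroup.induction_on with | H s => ?_
    induction y using QuotientGroup.induction_on with | H t => ?_
    exact Subtype.ext (QuotientGroup.eq.2 fun i _ => QuotientGroup.eq.1 (congrArg Subtype.val (congrFun h i)))

theorem card_aut [IsSimpleGroup T] (hT : ¬ IsMulCommutative T) :
    Nat.card (MulAut (ι → T)) ≤ Nat.card (MulAut T) ^ Fintype.card ι * (Fintype.card ι).factorial := by
  classical
  choose σ φ h using H936.AutPow.exists_form (ι := ι) hT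
  have : Finite (MulAut T) := Finite.of_injective (fun f => f.toEquiv) MulEquiv.toEquiv_injective
  have h1 := Nat.card_le_card_of_injective (fun β => (φ β, σ β)) fun β γ e => by
    obtain ⟨h2, h3⟩ := Prod.mk.inj e
    ext x j
    obtain ⟨i, rfl⟩ := (σ β).surjective j
    rw [h, h3, h, h2]
  rwa [Nat.card_prod, Nat.card_fun, Nat.card_perm, Nat.card_eq_fintype_card (α := ι)] at h1

theorem ord_pi {p : ℕ} (hp : p.Prime) {a : ι → T} (h : ∀ i, ∃ k, orderOf (a i) = p ^ k) : ∃ k, orderOf a = p ^ k := by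
  choose k hk using h
  have h1 : a ^ p ^ (∑ i, k i) = 1 := funext fun i => orderOf_dvd_iff_pow_eq_one.1
    (hk i ▸ pow_dvd_pow p (Finset.single_le_sum (fun _ _ => Nat.zero_le _) (Finset.mem_univ i)))
  obtain ⟨j, -, hj⟩ := (Nat.dvd_prime_pow hp).1 (orderOf_dvd_of_pow_eq_one h1)
  exact ⟨j, hj⟩

end pi

variable {Ω : Type} [Fintype Ω] [DecidableEq Ω]

/-- diagonal type, or a regular normal subgroup: the elements of one factor have no fixed point -/
structure Free (H : Subgroup (Perm Ω)) (T : Type) [Group T] (m : ℕ) : Prop where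
  ord : Nat.card (al H) ≤ Fintype.card Ω * (Nat.card (MulAut T) ^ m * m.factorial)
  deg : ∃ s, 1 ≤ s ∧ m ≤ 2 * s ∧ Nat.card T ^ s ≤ Fintype.card Ω
  el : ∀ y : T, y ≠ 1 → ∃ x ∈ H, orderOf x = orderOf y ∧ nf x = 0

/-- product type -/
structure Pd (H : Subgroup (Perm Ω)) (T : Type) [Group T] (m : ℕ) (L : Fin m → Subgroup T) : Prop where
  two : 2 ≤ m
  ord : Nat.card (al H) ≤ Nat.card (MulAut T) ^ m * m.factorial
  ne : ∀ i, L i ≠ ⊤
  deg : Fintype.card Ω = ∏ i, (L i).index
  el : ∀ a : Fin m → T, ∃ x ∈ H, orderOf x = orderOf a ∧ nf x ≤ ∏ i, fx (L i) (a i)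

theorem struct {H : Subgroup (Perm Ω)} {N : Subgroup H} [hN : N.Normal] (h : NF H (N.map H.subtype))
    (hmin : ∀ M : Subgroup H, M.Normal → M ≤ N → M = ⊥ ∨ M = N) (hna : ¬ ∀ x ∈ N, ∀ y ∈ N, Commute x y)
    (hc : ¬ IsSimpleGroup N ∨ centralizer (N : Set H) ≠ ⊥) :
    ∃ (T : Type) (_ : Group T) (_ : Finite T) (_ : IsSimpleGroup T) (m : ℕ), ¬ IsMulCommutative T ∧
      (Free H T m ∨ ∃ L, Pd H T m L) := by
  classical
  have h7 := h.card
  have hprim := h.prim
  have : Nontrivial Ω := Fintype.one_lt_card_iff_nontrivial.1 (by omega)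
  obtain ⟨ω⟩ : Nonempty Ω := inferInstance
  have htr : IsPretransitive N Ω := ⟨fun x y => by
    obtain ⟨⟨_, g, hg, rfl⟩, h1⟩ := h.tr.exists_smul_eq x y
    exact ⟨⟨g, hg⟩, h1⟩⟩
  have hfix : ∀ g : H, (∀ x : Ω, g • x = x) → g = 1 := fun g hg => Subtype.ext (Equiv.ext hg)
  set K := stabilizer H ω with hK
  have hmax : ∀ X ≤ N, K ⊓ N ≤ X → K ≤ normalizer (X : Set H) → X = K ⊓ N ∨ X = N := by
    intro X hX hKX hinv
    have hco : IsCoatom K := IsPreprimitive.isCoatom_stabilizer_of_isPreprimitive H ω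
    rcases hco.le_iff.mp (le_sup_left : K ≤ K ⊔ X) with h | h
    · right
      apply le_antisymm hX
      intro n hn
      have hn' : n ∈ ((K ⊔ X : Subgroup H) : Set H) := by
        rw [h]; exact Set.mem_univ _
      rw [Subgroup.coe_mul_of_left_le_normalizer_right _ _ hinv] at hn'
      obtain ⟨k, hk, x, hx, rfl⟩ := hn'
      have hkN : k ∈ N := by
        have := N.mul_mem hn (N.inv_mem (hX hx))
        simpa using this
      exact X.mul_mem (hKX ⟨hk, hkN⟩) hx
    · exact Or.inl (le_antisymm (le_inf (le_sup_right.trans h.le) hX) hKX)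
  obtain ⟨T, _, m, e, hTs, hTna, hm, hcase⟩ := PermutationGroups.OnanScott.onan_scott N hmin hna K (fun g => by
    obtain ⟨n, hn⟩ := htr.exists_smul_eq ω (g⁻¹ • ω)
    refine ⟨n, n.2, ?_⟩
    change (g * n.1) • ω = ω
    rw [mul_smul, show n.1 • ω = g⁻¹ • ω from hn, smul_inv_smul]) (fun h1 => by
    obtain ⟨x, hx⟩ := exists_ne ω
    obtain ⟨n, hn⟩ := htr.exists_smul_eq ω x
    exact hx (hn.symm.trans (h1 n.2))) hmax
  have hTfin : Finite T := by
    have hfin : Finite (Fin m → T) := Finite.of_equiv N e.toEquiv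
    exact Finite.of_surjective (fun f : Fin m → T => f ⟨0, hm⟩) fun t => ⟨fun _ => t, rfl⟩
  have hfa : Finite (MulAut N) := Finite.of_injective (fun f => f.toEquiv) MulEquiv.toEquiv_injective
  have hA : Nat.card (MulAut N) ≤ Nat.card (MulAut T) ^ m * m.factorial := by
    have := card_aut (ι := Fin m) hTna
    rwa [Fintype.card_fin, ← Nat.card_congr (MulAut.congr e).toEquiv] at this
  have hker : ∀ g : H, MulAut.conjNormal (H := N) g = 1 → g ∈ centralizer (N : Set H) := fun g hg n hn => by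
    have h1 : g * n * g⁻¹ = n := congrArg (fun f : MulAut N => (f ⟨n, hn⟩).1) hg
    rw [← mul_inv_eq_iff_eq_mul.1 h1]
  have hord : Nat.card (al H) ≤ Fintype.card Ω * (Nat.card (MulAut T) ^ m * m.factorial) := by
    refine (card_al_le H).trans ?_
    rw [← K.index_mul_card, index_stabilizer_of_transitive, Nat.card_eq_fintype_card]
    refine Nat.mul_le_mul_left _ (le_trans (Nat.card_le_card_of_injective ((MulAut.conjNormal (H := N)).comp K.subtype)
      ((injective_iff_map_eq_one _).2 fun k hk => Subtype.ext (hfix k fun x => ?_))) hA)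
    obtain ⟨n, rfl⟩ := htr.exists_smul_eq ω x
    change k.1 • (n.1 • ω) = n.1 • ω
    rw [← mul_smul, ← hker k hk n n.2, mul_smul, mem_stabilizer_iff.1 k.2]
  have hnf : ∀ n : N, nf (n.1 : Perm Ω) = fx (stabilizer N ω) n := fun n => card_fixedBy_eq ω n
  have ho : ∀ a, orderOf ((e.symm a).1 : Perm Ω) = orderOf a := fun a => by
    rw [Subgroup.orderOf_coe, Subgroup.orderOf_coe, e.symm.orderOf_eq]
  have hfree : ∀ i : Fin m, (∀ n : N, n.1 ∈ K → (∀ j, j ≠ i → e n j = 1) → e n i = 1) →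
      ∀ y : T, y ≠ 1 → ∃ x ∈ H, orderOf x = orderOf y ∧ nf x = 0 := fun i hi y hy => by
    refine ⟨_, (e.symm (Pi.mulSingle i y)).1.2, (ho _).trans
      (orderOf_injective (MonoidHom.mulSingle (fun _ => T) i) (Pi.mulSingle_injective (M := fun _ => T) i) y), ?_⟩
    rw [hnf]
    refine Nat.card_eq_zero.2 (Or.inl ⟨fun ⟨x, hx⟩ => hy ?_⟩)
    induction x using QuotientGroup.induction_on with | H t => ?_
    have h1 := hi _ ((smul_mk_iff _ _ t).1 hx) fun j hj => by simp [Pi.mulSingle_eq_of_ne hj]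
    have h2 : (e t i)⁻¹ * y * e t i = 1 := by simpa using h1
    rw [← conj_eq_one_iff (a := (e t i)⁻¹), inv_inv, h2]
  refine ⟨T, inferInstance, hTfin, hTs, m, hTna, ?_⟩
  have hi := index_stabilizer_of_transitive N ω
  rw [Nat.card_eq_fintype_card] at hi
  rcases hcase with ⟨L, h1, h2⟩ | ⟨k, c, h1, h2, h3⟩
  · by_cases hC : centralizer (N : Set H) = ⊥
    · have h3 : stabilizer N ω = (Subgroup.pi Set.univ L).comap e.toMonoidHom :=
        Subgroup.ext fun n => (h2 n).trans ⟨fun h i _ => h i, fun h i => h i (Set.mem_univ i)⟩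
      refine Or.inr ⟨L, ?_, (card_al_le H).trans (le_trans (Nat.card_le_card_of_injective (MulAut.conjNormal (H := N))
        ((injective_iff_map_eq_one _).2 fun g hg => mem_bot.1 (hC ▸ hker g hg))) hA), h1, ?_, fun a => ⟨_, (e.symm a).1.2, ho a, ?_⟩⟩
      · by_contra h4
        obtain rfl : m = 1 := by omega
        exact hc.resolve_right (not_not.2 hC) (e.trans (MulEquiv.funUnique (Fin 1) T)).isSimpleGroup
      · rw [← hi, h3, index_comap_of_surjective _ e.surjective, index_pi]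
      · rw [hnf, h3, fx_comap _ e.surjective]
        simpa using fx_pi L a
    · have h3 : IsPretransitive (centralizer (N : Set H)) Ω :=
        IsQuasiPreprimitive.isPretransitive_of_normal (G := H) fun h => hC (by
          rw [eq_bot_iff]
          exact fun a ha => mem_bot.2 (hfix a fun x => (h.ge (Set.mem_univ x)) ⟨a, ha⟩))
      have h4 : ∀ n : N, n.1 ∈ K → n = 1 := fun n hn => Subtype.ext (hfix n fun x => by
        obtain ⟨z, rfl⟩ := h3.exists_smul_eq ω x
        change n.1 • (z.1 • ω) = z.1 • ω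
        rw [← mul_smul, z.2 n n.2, mul_smul, mem_stabilizer_iff.1 hn])
      refine Or.inl ⟨hord, ⟨m, hm, by omega, ?_⟩, hfree ⟨0, hm⟩ fun n hn _ => by rw [h4 n hn, map_one]; rfl⟩
      rw [← hi, show stabilizer N ω = ⊥ from eq_bot_iff.2 fun n hn => mem_bot.2 (h4 n hn), index_bot, Nat.card_congr e.toEquiv,
        Nat.card_fun, Nat.card_eq_fintype_card (α := Fin m), Fintype.card_fin]
  · have h4 : ∀ i, ∃ j, j ≠ i ∧ c j = c i := fun i => by
      have : Nonempty {j // c j = c i} := ⟨⟨i, rfl⟩⟩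
      have h5 := (h2 (c i)).resolve_right Nat.card_pos.ne'
      have := Finite.one_lt_card_iff_nontrivial.1 (h5 ▸ h1)
      obtain ⟨j, hj⟩ := exists_ne (⟨i, rfl⟩ : {j // c j = c i})
      exact ⟨j, fun h => hj (Subtype.ext h), j.2⟩
    choose d hd hd' using h4
    let r : Fin m → Fin m := fun i => Classical.choose (⟨i, rfl⟩ : ∃ j, c j = c i)
    have hr : ∀ i, c (r i) = c i := fun i => Classical.choose_spec (⟨i, rfl⟩ : ∃ j, c j = c i)
    have hr2 : ∀ i j, c i = c j → r i = r j := fun i j hij => by simp only [r, hij]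
    have h5 : Nat.card {i // r i = i} ≤ Nat.card {i // r i ≠ i} :=
      Nat.card_le_card_of_injective (fun i => ⟨d i, by rw [hr2 _ _ (hd' i), i.2]; exact (hd i).symm⟩) fun i j h =>
        Subtype.ext (by rw [← i.2, ← j.2, ← hr2 _ _ (hd' i), ← hr2 _ _ (hd' j), Subtype.mk.inj h])
    have h6 : Nat.card {i // r i = i} + Nat.card {i // r i ≠ i} = m := by
      rw [← Nat.card_sum, Nat.card_congr (Equiv.sumCompl _), Nat.card_eq_fintype_card, Fintype.card_fin]
    refine Or.inl ⟨hord, ⟨Nat.card {i // r i ≠ i}, by omega, by omega, ?_⟩,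
      hfree ⟨0, hm⟩ fun n hn h8 => ((h3 n).1 hn _ _ (hd' _).symm).trans (h8 _ (hd _))⟩
    rw [← Nat.card_fun, ← Nat.card_eq_fintype_card]
    refine Nat.card_le_card_of_injective
      (fun z => (e.symm fun i => if h : r i = i then 1 else z ⟨i, h⟩ : N) • ω) fun z w hzw => funext fun i => ?_
    have h8 := (h3 _).1 (show (((e.symm fun i => if h : r i = i then 1 else z ⟨i, h⟩ : N)⁻¹ *
      (e.symm fun i => if h : r i = i then 1 else w ⟨i, h⟩ : N) : N) : H) ∈ K by
        change (_⁻¹ * _ : N) • ω = ω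
        rw [mul_smul, inv_smul_eq_iff]
        exact hzw.symm) i (r i) (hr i).symm
    have h9 : r (r i) = r i := hr2 _ _ (hr i)
    simp only [map_mul, map_inv, MulEquiv.apply_symm_apply, Pi.mul_apply, Pi.inv_apply, dif_neg i.2, dif_pos h9, inv_one,
      mul_one] at h8
    exact inv_mul_eq_one.1 h8

end Cfsg.Agent.N2.Alt.NP
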