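import Cfsg.Agent.N2.Alt.Cen
import Cfsg.Agent.S3578
import Cfsg.Agent.S3569

/-!
# N2 (S3519), alternating groups: `p`-elements of simple groups with few fixed points (helper51)
-/

set_option autoImplicit false
set_option linter.unusedSectionVars false

namespace Cfsg.Agent.N2.Alt

open Equiv Equiv.Perm MulAction Subgroup Cfsg.Agent.FP3 Nat

variable {S : Type*} [Group S] [Finite S] [IsSimpleGroup S] {p : ℕ}

theorem gen_p (hp : p.Prime) (hd : p ∣ Nat.card S) : closure {g : S | ∃ k : ℕ, orderOf g = p ^ k} = ⊤ := by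
  have : Fact p.Prime := ⟨hp⟩
  have hn : (closure {g : S | ∃ k : ℕ, orderOf g = p ^ k}).Normal := by
    refine ⟨fun x hx g => ?_⟩
    induction hx using closure_induction with
    | mem x hx =>
      obtain ⟨k, hk⟩ := hx
      exact subset_closure ⟨k, by rw [← hk]; exact (MulAut.conj g).orderOf_eq x⟩
    | one => simp
    | mul x y _ _ h1 h2 => simpa [mul_assoc] using mul_mem h1 h2
    | inv x _ h => simpa [mul_assoc] using inv_mem h
  refine hn.eq_bot_or_eq_top.resolve_left fun h => ?_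
  obtain ⟨x, hx⟩ := exists_prime_orderOf_dvd_card' p hd
  have h1 : x ∈ closure {g : S | ∃ k : ℕ, orderOf g = p ^ k} := subset_closure ⟨1, by rw [hx, pow_one]⟩
  rw [h, mem_bot] at h1
  rw [h1, orderOf_one] at hx
  exact hp.one_lt.ne hx

theorem not_quot {X : Type*} [Group X] [Nontrivial X] (h : ¬ Nonempty (S ≃* X)) (N : Subgroup S) [hN : N.Normal] :
    ¬ Nonempty (S ⧸ N ≃* X) := by
  rintro ⟨e⟩
  rcases hN.eq_bot_or_eq_top with rfl | rfl
  · exact h ⟨QuotientGroup.quotientBot.symm.trans e⟩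
  · have : Subsingleton (S ⧸ (⊤ : Subgroup S)) := QuotientGroup.subsingleton_quotient_top
    exact not_subsingleton X e.symm.injective.subsingleton

/-- the prime `p` is not exceptional for `S` -/
def NE (p : ℕ) (S : Type*) [Group S] : Prop :=
  (∀ m, p + 1 < m → m < p ^ 2 - p → ¬ Nonempty (S ≃* alternatingGroup (Fin m))) ∧
    ∀ k, p + 1 = 2 ^ k → ¬ Nonempty (S ≃* Matrix.SpecialLinearGroup (Fin 2) (GaloisField 2 k))

theorem nontrivial_sl (F : Type*) [Field F] : Nontrivial (Matrix.SpecialLinearGroup (Fin 2) F) :=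
  ⟨⟨⟨!![1, 1; 0, 1], by simp [Matrix.det_fin_two]⟩, 1, fun h => by
    simpa using congrFun (congrFun (congrArg Subtype.val h) 0) 1⟩⟩

section

variable {Ω : Type*} [Finite Ω] [MulAction S Ω] [FaithfulSMul S Ω]

/-- **S3578** for a simple group -/
theorem pel_act (htr : IsPretransitive S Ω) (hp : p.Prime) (hd : p ∣ Nat.card S) (h : NE p S) :
    ∃ x : S, (∃ k, orderOf x = p ^ k) ∧ (p + 1) * Nat.card (fixedBy Ω x) ≤ Nat.card Ω := by
  have : Fact p.Prime := ⟨hp⟩
  refine S3578.result htr p hd (gen_p hp hd) (fun N _ m h1 h2 => ?_) fun N _ k h1 => ?_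
  · have : Nontrivial (alternatingGroup (Fin m)) :=
      alternatingGroup.nontrivial_of_three_le_card (by have := hp.two_le; simp only [Nat.card_eq_fintype_card, Fintype.card_fin]; omega)
    exact not_quot (h.1 m h1 h2) N
  · have := nontrivial_sl (GaloisField 2 k)
    exact not_quot (h.2 k h1) N

/-- **S3569** for a simple group -/
theorem hel_act (htr : IsPretransitive S Ω) (hp : p.Prime) (hd : p ∣ Nat.card S) :
    ∃ x : S, (∃ k, orderOf x = p ^ k) ∧ (2 * p - 1) * Nat.card (fixedBy Ω x) ≤ (p - 1) * Nat.card Ω := by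
  have : Fact p.Prime := ⟨hp⟩
  exact S3569.result htr p hd (gen_p hp hd)

end

theorem faithful_quot {K : Subgroup S} (hK : K ≠ ⊤) : FaithfulSMul S (S ⧸ K) := by
  have h1 : (toPermHom S (S ⧸ K)).ker = ⊥ := by
    rw [← normalCore_eq_ker]
    exact (inferInstance : K.normalCore.Normal).eq_bot_or_eq_top.resolve_right fun h => hK (eq_top_iff.2 (h ▸ normalCore_le K))
  exact ⟨fun h => (MonoidHom.ker_eq_bot_iff _).1 h1 (Equiv.ext h)⟩

theorem pel {K : Subgroup S} (hK : K ≠ ⊤) (hp : p.Prime) (hd : p ∣ Nat.card S) (h : NE p S) :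
    ∃ x : S, (∃ k, orderOf x = p ^ k) ∧ (p + 1) * fx K x ≤ K.index := by
  have := faithful_quot hK
  exact pel_act (Ω := S ⧸ K) inferInstance hp hd h

theorem hel {K : Subgroup S} (hK : K ≠ ⊤) (hp : p.Prime) (hd : p ∣ Nat.card S) :
    ∃ x : S, (∃ k, orderOf x = p ^ k) ∧ (2 * p - 1) * fx K x ≤ (p - 1) * K.index := by
  have := faithful_quot hK
  exact hel_act (Ω := S ⧸ K) inferInstance hp hd

section

variable {Ω : Type} [Fintype Ω] [DecidableEq Ω] {H N : Subgroup (Perm Ω)} [IsSimpleGroup N]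

theorem NF.pel (h : NF H N) (hp : p.Prime) (hd : p ∣ Nat.card N) (hE : NE p N) :
    ∃ x ∈ N, (∃ k, orderOf x = p ^ k) ∧ (p + 1) * nf x ≤ Fintype.card Ω := by
  obtain ⟨x, ⟨k, h1⟩, h2⟩ := pel_act h.tr hp hd hE
  exact ⟨x, x.2, ⟨k, by rw [orderOf_coe, h1]⟩, by rwa [Nat.card_eq_fintype_card (α := Ω)] at h2⟩

theorem NF.hel (h : NF H N) (hp : p.Prime) (hd : p ∣ Nat.card N) :
    ∃ x ∈ N, (∃ k, orderOf x = p ^ k) ∧ (2 * p - 1) * nf x ≤ (p - 1) * Fintype.card Ω := by
  obtain ⟨x, ⟨k, h1⟩, h2⟩ := hel_act h.tr hp hd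
  exact ⟨x, x.2, ⟨k, by rw [orderOf_coe, h1]⟩, by rwa [Nat.card_eq_fintype_card (α := Ω)] at h2⟩

end

end Cfsg.Agent.N2.Alt
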