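import Cfsg.Agent.N2.Alt.NAP1
import Cfsg.Agent.N2.Alt.Pel
import Cfsg.Agent.S2119

/-!
# N2 (S3519), box NA, product and diagonal types: the elements (helper42)
-/

set_option autoImplicit false
set_option linter.unusedSectionVars false

namespace Cfsg.Agent.N2.Alt.NP

open Equiv Equiv.Perm MulAction Subgroup Cfsg.Agent.FP3

/-- what the table of the simple groups has to give -/
def Kd (T : Type) [Group T] : Prop :=
  (∃ p, p.Prime ∧ 11 ≤ p ∧ p ∣ Nat.card T ∧ NE p T) ∨ (∃ m, 11 ≤ m ∧ Nonempty (T ≃* alternatingGroup (Fin m))) ∨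
  (49 ≤ Nat.card T ∧ 7 ∣ Nat.card T ∧ (NE 7 T ∨ Nat.card (MulAut T) ≤ 2 ^ 24)) ∨
  ((Nat.card T = 60 ∨ Nat.card T = 360) ∧ Nat.card (MulAut T) ≤ 2 ^ 12) ∨
  (Nat.card T = 25920 ∧ Nat.card (MulAut T) ≤ 2 ^ 16)

theorem ord_le {A a l m : ℕ} (hA : A ≤ 2 ^ a) (h : 2 * a + 1 ≤ l ^ 2) (hl : 3 ≤ l) (hm : 2 ≤ m) :
    A ^ m * m.factorial ≤ 2 ^ l ^ m := by
  induction m, hm using Nat.le_induction with
  | base =>
    calc A ^ 2 * Nat.factorial 2 ≤ (2 ^ a) ^ 2 * 2 := Nat.mul_le_mul (Nat.pow_le_pow_left hA 2) le_rfl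
      _ = 2 ^ (2 * a + 1) := by ring
      _ ≤ _ := Nat.pow_le_pow_right two_pos h
  | succ m hm ih =>
    have h1 : l ^ 2 ≤ l ^ m := Nat.pow_le_pow_right (by omega) hm
    have h2 : m < l ^ m := Nat.lt_pow_self (by omega)
    have h3 : l ^ m * 3 ≤ l ^ (m + 1) := by rw [pow_succ]; exact Nat.mul_le_mul_left _ hl
    calc A ^ (m + 1) * (m + 1).factorial = A ^ m * m.factorial * A * (m + 1) := by rw [Nat.factorial_succ]; ring
      _ ≤ 2 ^ l ^ m * 2 ^ a * 2 ^ m := Nat.mul_le_mul (Nat.mul_le_mul ih hA) Nat.lt_two_pow_self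
      _ = 2 ^ (l ^ m + a + m) := by ring
      _ ≤ _ := Nat.pow_le_pow_right two_pos (by omega)

theorem lt_seven {m : ℕ} (hm : 3 ≤ m) : 2 * (16 * m + m * m) ≤ 7 ^ m := by
  induction m, hm using Nat.le_induction with
  | base => norm_num
  | succ m hm ih =>
    rw [pow_succ]
    nlinarith

theorem ord_free {A n m : ℕ} (hA : A ≤ 2 ^ 16) (hn : 60 ≤ n) (hm : 7 ^ m ≤ n) : n * (A ^ m * m.factorial) ≤ 2 ^ n := by
  have h1 : ∀ r, 5 ≤ r → 4 * r + 4 ≤ 2 ^ r := fun r hr => by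
    induction r, hr using Nat.le_induction with
    | base => norm_num
    | succ r hr ih => rw [pow_succ]; omega
  have h2 := h1 (n / 4) (by omega)
  have h3 : 16 * m + m * m + n / 4 ≤ n := by
    by_cases h4 : 3 ≤ m
    · have := lt_seven h4
      omega
    · have : m * m ≤ 2 * 2 := Nat.mul_le_mul (by omega) (by omega)
      omega
  have h4 : m.factorial ≤ (2 ^ m) ^ m := (Nat.factorial_le_pow m).trans (Nat.pow_le_pow_left Nat.lt_two_pow_self.le m)
  calc _ ≤ 2 ^ (n / 4) * ((2 ^ 16) ^ m * (2 ^ m) ^ m) :=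
      Nat.mul_le_mul (by omega) (Nat.mul_le_mul (Nat.pow_le_pow_left hA m) h4)
    _ = 2 ^ (16 * m + m * m + n / 4) := by rw [← pow_mul, ← pow_mul, ← pow_add, ← pow_add, add_comm]
    _ ≤ _ := Nat.pow_le_pow_right two_pos h3

theorem fact_le_two (m : ℕ) : m.factorial ≤ 2 ^ m.choose 2 := by
  induction m with
  | zero => simp
  | succ m ih =>
    rw [Nat.factorial_succ, Nat.choose_succ_succ' m 1, Nat.choose_one_right, pow_add]
    exact Nat.mul_le_mul Nat.lt_two_pow_self ih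

variable {T : Type} [Group T] [Finite T] [IsSimpleGroup T]

theorem dvd_idx {L : Subgroup T} (hL : L ≠ ⊤) : Nat.card T ∣ L.index.factorial := by
  have := faithful_quot hL
  have h1 := card_dvd_of_injective (toPermHom T (T ⧸ L)) toPerm_injective
  rwa [Nat.card_perm] at h1

theorem card_of_alt {m : ℕ} (hm : 2 ≤ m) (e : T ≃* alternatingGroup (Fin m)) : 2 * Nat.card T = m.factorial := by
  rw [Nat.card_congr e.toEquiv, two_mul_card (by simpa using hm), Fintype.card_fin]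

theorem ne_five (h : Nat.card T = 60 ∨ Nat.card T = 360 ∨ Nat.card T = 25920) : NE 5 T := by
  refine ⟨fun m h1 h2 ⟨e⟩ => ?_, fun k hk => ?_⟩
  · have h3 : 7 ∣ 2 * Nat.card T := card_of_alt (by omega) e ▸ Nat.dvd_factorial (by norm_num) (by omega)
    omega
  · have h3 : 3 ∣ 2 ^ k := hk ▸ by norm_num
    exact absurd (Nat.prime_three.dvd_of_dvd_pow h3) (by norm_num)

variable {Ω : Type} [Fintype Ω] [DecidableEq Ω] {H : Subgroup (Perm Ω)} {m : ℕ}

theorem Free.good (hP : Pr H) (h : Free H T m) (hk : Kd T) : Good (al H) := by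
  have hel : ∀ p, p.Prime → p ∣ Nat.card T → ∃ x ∈ H, orderOf x = p ^ 1 ∧ nf x = 0 := fun p hp hd => by
    have : Fact p.Prime := ⟨hp⟩
    obtain ⟨y, hy⟩ := exists_prime_orderOf_dvd_card' p hd
    obtain ⟨x, h1, h2, h3⟩ := h.el y fun h4 => hp.ne_one (by rw [← hy, h4, orderOf_one])
    exact ⟨x, h1, by rw [h2, hy, pow_one], h3⟩
  have big : ∀ p, p.Prime → 11 ≤ p → p ∣ Nat.card T → Good (al H) := fun p hp h1 hd => by
    obtain ⟨x, h2, h3, h4⟩ := hel p hp hd
    exact good_big hP h2 hp h1 h3 (by rw [h4]; omega)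
  obtain ⟨s, h1, h2, h3⟩ := h.deg
  have h4 : Nat.card T ≤ Fintype.card Ω := (Nat.le_self_pow (by omega) _).trans h3
  have five : 60 ≤ Nat.card T → 5 ∣ Nat.card T → Nat.card (MulAut T) ≤ 2 ^ 16 → Good (al H) := fun h5 h6 h7 => by
    obtain ⟨x, h8, h9, h10⟩ := hel 5 (by norm_num) h6
    refine good_two (c := 1) (by simp) h8 h9 (by rw [h10]; omega) (by omega) (h.ord.trans (ord_free h7 (by omega) ?_))
    calc 7 ^ m ≤ 7 ^ (2 * s) := Nat.pow_le_pow_right (by norm_num) h2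
      _ = 49 ^ s := by rw [pow_mul]; norm_num
      _ ≤ _ := (Nat.pow_le_pow_left (by omega) s).trans h3
  rcases hk with ⟨p, h5, h6, h7, -⟩ | ⟨k, h5, ⟨e⟩⟩ | ⟨h5, h6, -⟩ | ⟨h5, h6⟩ | ⟨h5, h6⟩
  · exact big p h5 h6 h7
  · have h6 : 11 ∣ 2 * Nat.card T := card_of_alt (by omega) e ▸ Nat.dvd_factorial (by norm_num) h5
    exact big 11 (by norm_num) le_rfl (by omega)
  · obtain ⟨x, h7, h8, h9⟩ := hel 7 (by norm_num) h6
    exact good_seven hP h7 h8 (by rw [h9]; omega) (by omega)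
  · exact five (by omega) (by omega) (by omega)
  · exact five (by omega) (by omega) h6

variable {L : Fin m → Subgroup T}

theorem Pd.rat (h : Pd H T m L) {p u v : ℕ} (hp : p.Prime) (hu : 0 < u) (hv : v ≤ u)
    (hr : ∀ i, ∃ y : T, (∃ k, orderOf y = p ^ k) ∧ u * fx (L i) y ≤ v * (L i).index) :
    ∃ x ∈ H, (∃ k, orderOf x = p ^ k) ∧ u ^ 2 * nf x ≤ v ^ 2 * Fintype.card Ω := by
  choose a h1 h2 using hr
  obtain ⟨x, h3, h4, h5⟩ := h.el a
  refine ⟨x, h3, h4 ▸ ord_pi hp h1, ?_⟩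
  have h6 : ∏ i, u * fx (L i) (a i) ≤ ∏ i, v * (L i).index := Finset.prod_le_prod' fun i _ => h2 i
  rw [Finset.prod_mul_distrib, Finset.prod_mul_distrib, Finset.prod_const, Finset.prod_const, Finset.card_univ,
    Fintype.card_fin, ← h.deg] at h6
  obtain ⟨j, hj⟩ := Nat.exists_eq_add_of_le h.two
  refine Nat.le_of_mul_le_mul_left ?_ (pow_pos hu j)
  calc _ = u ^ m * nf x := by rw [hj]; ring
    _ ≤ v ^ m * Fintype.card Ω := (Nat.mul_le_mul_left _ h5).trans h6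
    _ = v ^ j * (v ^ 2 * Fintype.card Ω) := by rw [hj]; ring
    _ ≤ _ := Nat.mul_le_mul_right _ (Nat.pow_le_pow_left hv j)

theorem Pd.le (h : Pd H T m L) {l : ℕ} (hl : ∀ K : Subgroup T, K ≠ ⊤ → l ≤ K.index) : l ^ m ≤ Fintype.card Ω := by
  have := Finset.pow_card_le_prod Finset.univ (fun i => (L i).index) l fun i _ => hl _ (h.ne i)
  rwa [Finset.card_univ, Fintype.card_fin, ← h.deg] at this

theorem Pd.small (h : Pd H T m L) {l a : ℕ} (hl : ∀ K : Subgroup T, K ≠ ⊤ → l ≤ K.index) (h5 : 5 ≤ l)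
    (hA : Nat.card (MulAut T) ≤ 2 ^ a) (ha : 2 * a + 1 ≤ l ^ 2) :
    25 ≤ Fintype.card Ω ∧ Nat.card (al H) ≤ 2 ^ Fintype.card Ω :=
  ⟨(Nat.pow_le_pow_left h5 2).trans ((Nat.pow_le_pow_right (by omega) h.two).trans (h.le hl)),
    h.ord.trans ((ord_le hA ha (by omega) h.two).trans (Nat.pow_le_pow_right two_pos (h.le hl)))⟩

theorem Pd.good (hP : Pr H) (h : Pd H T m L) (hk : Kd T) : Good (al H) := by
  have hidx : ∀ p, p.Prime → p ∣ Nat.card T → ∀ K : Subgroup T, K ≠ ⊤ → p ≤ K.index := fun p hp hd K hK =>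
    hp.dvd_factorial.1 (hd.trans (dvd_idx hK))
  have hpel : ∀ p, p.Prime → p ∣ Nat.card T → NE p T → ∃ x ∈ H, ∃ k, orderOf x = p ^ k ∧ (p + 1) * nf x ≤ Fintype.card Ω := by
    intro p hp hd hE
    obtain ⟨x, h1, ⟨k, h2⟩, h3⟩ := h.rat (u := p + 1) (v := 1) hp (by omega) (by omega) fun i => by
      simpa using pel (h.ne i) hp hd hE
    refine ⟨x, h1, k, h2, le_trans (Nat.mul_le_mul_right _ (Nat.le_self_pow two_ne_zero _)) ?_⟩
    simpa using h3
  rcases hk with ⟨p, h1, h2, h3, h4⟩ | ⟨k, h1, ⟨e⟩⟩ | ⟨-, h1, h2 | h2⟩ | ⟨h1, h2⟩ | ⟨h1, h2⟩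
  · obtain ⟨x, h5, i, h6, h7⟩ := hpel p h1 h3 h4
    exact good_big hP h5 h1 h2 h6 h7
  · have h2 : 11 ∣ 2 * Nat.card T := card_of_alt (by omega) e ▸ Nat.dvd_factorial (by norm_num) h1
    obtain ⟨x, h3, ⟨i, h4⟩, h5⟩ := h.rat (p := 11) (u := 21) (v := 10) (by norm_num) (by norm_num) (by norm_num) fun i =>
      hel (h.ne i) (by norm_num) (by omega)
    obtain ⟨h6, h7⟩ := h.small (l := k) (a := k.choose 2)
      (fun K hK => by simpa using TH.Sim.Al.le_index_alt e (by simp; omega) hK) (by omega) (by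
        rw [Nat.card_congr (MulAut.congr e).toEquiv, ← Nat.card_eq_of_bijective _ (S2119.result k (by omega) (by omega)),
          Nat.card_perm, Nat.card_eq_fintype_card, Fintype.card_fin]
        exact fact_le_two k) (by
        obtain ⟨j, rfl⟩ : ∃ j, k = j + 1 := ⟨k - 1, by omega⟩
        rw [Nat.choose_two_right, Nat.add_sub_cancel]
        have : (j + 1) ^ 2 = (j + 1) * j + (j + 1) := by ring
        omega)
    exact good_two (c := 4) (by simp) h3 h4 (by omega) h6 h7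
  · obtain ⟨x, h3, i, h4, h5⟩ := hpel 7 (by norm_num) h1 h2
    exact good_seven hP h3 h4 h5 ((Nat.pow_le_pow_right (n := 7) (by norm_num) h.two).trans (h.le (hidx 7 (by norm_num) h1)))
  · obtain ⟨x, h3, ⟨i, h4⟩, h5⟩ := h.rat (p := 7) (u := 13) (v := 6) (by norm_num) (by norm_num) (by norm_num) fun i =>
      hel (h.ne i) (by norm_num) h1
    obtain ⟨h6, h7⟩ := h.small (hidx 7 (by norm_num) h1) (by norm_num) h2 (by norm_num)
    exact good_two (c := 2) (by simp) h3 h4 (by omega) h6 h7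
  · obtain ⟨x, h3, i, h4, h5⟩ := hpel 5 (by norm_num) (by omega) (ne_five (by omega))
    obtain ⟨h6, h7⟩ := h.small (hidx 5 (by norm_num) (by omega)) le_rfl h2 (by norm_num)
    exact good_two (c := 1) (by simp) h3 h4 (by omega) h6 h7
  · obtain ⟨x, h3, i, h4, h5⟩ := hpel 5 (by norm_num) (by omega) (ne_five (by omega))
    obtain ⟨h6, h7⟩ := h.small (l := 6) (fun K hK => by
      by_contra h6
      have h7 := (Nat.le_of_dvd (Nat.factorial_pos _) (dvd_idx hK)).trans (Nat.factorial_le (by omega : K.index ≤ 5))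
      rw [h1] at h7
      exact absurd h7 (by decide)) (by norm_num) h2 (by norm_num)
    exact good_two (c := 1) (by simp) h3 h4 (by omega) h6 h7

/-- the product and diagonal types, given the table -/
theorem naProd_of (hk : ∀ (T : Type) [Group T] [Finite T] [IsSimpleGroup T], ¬ IsMulCommutative T → Kd T)
    {N : Subgroup H} [N.Normal] (h : NF H (N.map H.subtype))
    (hmin : ∀ M : Subgroup H, M.Normal → M ≤ N → M = ⊥ ∨ M = N) (hna : ¬ ∀ x ∈ N, ∀ y ∈ N, Commute x y)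
    (hc : ¬ IsSimpleGroup N ∨ centralizer (N : Set H) ≠ ⊥) : Good (al H) := by
  obtain ⟨T, _, _, _, m, h1, h2 | ⟨L, h2⟩⟩ := struct h hmin hna hc
  · exact h2.good h.toPr (hk T h1)
  · exact h2.good h.toPr (hk T h1)

end Cfsg.Agent.N2.Alt.NP
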