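import Cfsg.Agent.N2.Alt.Defs

/-!
# N2 (S3519), alternating groups: the numerical inequalities (helper51)
-/

set_option autoImplicit false

namespace Cfsg.Agent.N2.Alt

open Nat

/-- the inequality for groups of order at most `B ^ n` -/
def Q (B p f j : ℕ) : Prop := 2 * cb p f j ^ 3 * B ^ (f + p * j) ≤ (f + p * j)!

theorem Q_step {B p f j : ℕ} (a : ℕ) (h : Q B p f j)
    (h1 : (f + a) ^ (3 * a) * (p * (j + 1)) ^ 3 * B ^ (a + p) ≤ (f + p * j + 1) ^ (a + p)) : Q B p (f + a) (j + 1) := by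
  unfold Q cb at *
  have h2 : (f + a)! ≤ f ! * (f + a) ^ a := by
    rw [← factorial_mul_ascFactorial]
    exact Nat.mul_le_mul_left _ (ascFactorial_le_pow_add f a)
  have e : f + a + p * (j + 1) = f + p * j + (a + p) := by ring
  rw [e]
  calc 2 * ((f + a)! * p ^ (j + 1) * (j + 1)!) ^ 3 * B ^ (f + p * j + (a + p))
      ≤ 2 * (f ! * (f + a) ^ a * p ^ (j + 1) * (j + 1)!) ^ 3 * B ^ (f + p * j + (a + p)) := by gcongr
    _ = 2 * (f ! * p ^ j * j !) ^ 3 * B ^ (f + p * j) * ((f + a) ^ (3 * a) * (p * (j + 1)) ^ 3 * B ^ (a + p)) := by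
        rw [factorial_succ]; ring
    _ ≤ (f + p * j)! * (f + p * j + 1) ^ (a + p) := Nat.mul_le_mul h h1
    _ ≤ _ := factorial_mul_pow_le_factorial

theorem Q_ind {B p c j0 : ℕ} (h0 : 1 ≤ j0) (hb : ∀ f ≤ c * j0, Q B p f j0)
    (s0 : ∀ j, j0 ≤ j → 8 * B ^ p ≤ (p * j + 1) ^ (p - 3)) (hp : 3 ≤ p)
    (sc : ∀ j f, j0 ≤ j → c * j < f + c → f ≤ c * j →
      (c * (j + 1)) ^ (3 * c) * (p * (j + 1)) ^ 3 * B ^ (c + p) ≤ (f + p * j + 1) ^ (c + p))
    (j : ℕ) (hj : j0 ≤ j) : ∀ f ≤ c * j, Q B p f j := by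
  induction j, hj using Nat.le_induction with
  | base => exact hb
  | succ j hj ih =>
    intro f hf
    rcases le_or_gt f (c * j) with h | h
    · refine Q_step 0 (ih f h) ?_
      have h1 : p * (j + 1) ≤ 2 * (p * j + 1) := by nlinarith
      obtain ⟨q, rfl⟩ : ∃ q, p = q + 3 := ⟨p - 3, by omega⟩
      have h2 := s0 j hj
      rw [Nat.add_sub_cancel] at h2
      calc _ = ((q + 3) * (j + 1)) ^ 3 * B ^ (q + 3) := by simp
        _ ≤ (2 * ((q + 3) * j + 1)) ^ 3 * B ^ (q + 3) := by gcongr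
        _ = ((q + 3) * j + 1) ^ 3 * (8 * B ^ (q + 3)) := by ring
        _ ≤ ((q + 3) * j + 1) ^ 3 * ((q + 3) * j + 1) ^ q := Nat.mul_le_mul_left _ h2
        _ = ((q + 3) * j + 1) ^ (0 + (q + 3)) := by ring
        _ ≤ _ := Nat.pow_le_pow_left (by omega) _
    · have h1 : c ≤ c * j := Nat.le_mul_of_pos_right c (by omega)
      obtain ⟨g, rfl⟩ : ∃ g, f = g + c := ⟨f - c, by omega⟩
      have h2 : g ≤ c * j := by rw [mul_add, mul_one] at hf; omega
      refine Q_step c (ih g h2) (le_trans ?_ (sc j g hj h h2))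
      gcongr

instance decQ (B p f j : ℕ) : Decidable (Q B p f j) := by unfold Q; infer_instance

theorem aux_pow {x y u v k d : ℕ} (h : u * x ≤ v * y) (hv : 0 < v) (h1 : d * v ^ k ≤ u ^ k) : d * x ^ k ≤ y ^ k := by
  refine Nat.le_of_mul_le_mul_left ?_ (pow_pos hv k)
  calc v ^ k * (d * x ^ k) = d * v ^ k * x ^ k := by ring
    _ ≤ u ^ k * x ^ k := Nat.mul_le_mul_right _ h1
    _ = (u * x) ^ k := (mul_pow _ _ _).symm
    _ ≤ (v * y) ^ k := Nat.pow_le_pow_left h k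
    _ = _ := mul_pow _ _ _

theorem Q_five (f j : ℕ) (hj : 5 ≤ j) (hf : f ≤ 1 * j) : Q 2 5 f j := by
  refine Q_ind (j0 := 5) (by norm_num) (by decide +kernel) (fun j hj => ?_) (by norm_num) (fun j f hj h1 h2 => ?_) j hj f hf
  · exact le_trans (by norm_num) (Nat.pow_le_pow_left (show 16 ≤ 5 * j + 1 by omega) _)
  · refine le_trans (le_of_eq ?_) (aux_pow (x := j + 1) (u := 9) (v := 2) (d := 8000) (by omega) (by norm_num) (by norm_num))
    ring

theorem Q_seven (f j : ℕ) (hj : 3 ≤ j) (hf : f ≤ 2 * j) : Q 2 7 f j := by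
  refine Q_ind (j0 := 3) (by norm_num) (by decide +kernel) (fun j hj => ?_) (by norm_num) (fun j f hj h1 h2 => ?_) j hj f hf
  · exact le_trans (by norm_num) (Nat.pow_le_pow_left (show 16 ≤ 7 * j + 1 by omega) _)
  · refine le_trans (le_of_eq ?_) (aux_pow (x := j + 1) (u := 13) (v := 2) (d := 11239424) (by omega) (by norm_num)
      (by norm_num))
    ring

theorem Q_eleven (f j : ℕ) (hj : 2 ≤ j) (hf : f ≤ 4 * j) : Q 2 11 f j := by
  rcases hj.eq_or_lt with rfl | hj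
  · revert f
    decide +kernel
  refine Q_ind (j0 := 3) (by norm_num) (by decide +kernel) (fun j hj => ?_) (by norm_num) (fun j f hj h1 h2 => ?_) j hj f hf
  · exact le_trans (by norm_num) (Nat.pow_le_pow_left (show 16 ≤ 11 * j + 1 by omega) _)
  · refine le_trans (le_of_eq ?_) (aux_pow (x := j + 1) (u := 10) (v := 1) (d := 4 ^ 12 * 11 ^ 3 * 2 ^ 15) (by omega)
      (by norm_num) (by norm_num))
    ring

theorem Q_thirteen (f j : ℕ) (hj : 2 ≤ j) (hf : f ≤ 5 * j) : Q 2 13 f j := by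
  rcases hj.eq_or_lt with rfl | hj
  · revert f
    decide +kernel
  refine Q_ind (j0 := 3) (by norm_num) (by decide +kernel) (fun j hj => ?_) (by norm_num) (fun j f hj h1 h2 => ?_) j hj f hf
  · exact le_trans (by norm_num) (Nat.pow_le_pow_left (show 16 ≤ 13 * j + 1 by omega) _)
  · refine le_trans (le_of_eq ?_) (aux_pow (x := j + 1) (u := 12) (v := 1) (d := 5 ^ 15 * 13 ^ 3 * 2 ^ 18) (by omega)
      (by norm_num) (by norm_num))
    ring

theorem Q4_seven (f j : ℕ) (hj : 7 ≤ j) (hf : f ≤ 1 * j) : Q 4 7 f j := by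
  refine Q_ind (j0 := 7) (by norm_num) (by decide +kernel) (fun j hj => ?_) (by norm_num) (fun j f hj h1 h2 => ?_) j hj f hf
  · exact le_trans (by norm_num) (Nat.pow_le_pow_left (show 50 ≤ 7 * j + 1 by omega) _)
  · have h3 : 7 * (j + 1) ≤ f + 7 * j + 1 := by omega
    have h4 : 57 ≤ f + 7 * j + 1 := by omega
    calc _ = 22478848 * (j + 1) ^ 6 := by ring
      _ ≤ 57 ^ 2 * 7 ^ 6 * (j + 1) ^ 6 := Nat.mul_le_mul_right _ (by norm_num)
      _ = 57 ^ 2 * (7 * (j + 1)) ^ 6 := by ring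
      _ ≤ (f + 7 * j + 1) ^ 2 * (f + 7 * j + 1) ^ 6 := by gcongr
      _ = _ := by ring

theorem big_s0 (q : ℕ) : 8 * 4 ^ (q + 11) ≤ 12 ^ (q + 8) := by
  calc 8 * 4 ^ (q + 11) = 8 * 4 ^ 11 * 4 ^ q := by ring
    _ ≤ 12 ^ 8 * 12 ^ q := Nat.mul_le_mul (by norm_num) (Nat.pow_le_pow_left (by norm_num) q)
    _ = _ := by ring

theorem Q4_ind {p j0 : ℕ} (hp : 11 ≤ p) (h0 : 1 ≤ j0) (hb : ∀ f ≤ 1 * j0, Q 4 p f j0) (j : ℕ) (hj : j0 ≤ j) :
    ∀ f ≤ 1 * j, Q 4 p f j := by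
  obtain ⟨q, rfl⟩ : ∃ q, p = q + 11 := ⟨p - 11, by omega⟩
  refine Q_ind h0 hb (fun j hj => ?_) (by omega) (fun j f hj h1 h2 => ?_) j hj
  · exact (big_s0 q).trans (Nat.pow_le_pow_left (by nlinarith) _)
  · obtain rfl : f = j := by omega
    have h3 : (q + 12) * (f + 1) ≤ 2 * (f + (q + 11) * f + 1) := by nlinarith
    have h4 : 13 ≤ f + (q + 11) * f + 1 := by nlinarith
    have h5 : 64 * 4 ^ (q + 12) ≤ 12 ^ 3 * 13 ^ (q + 6) := by
      calc 64 * 4 ^ (q + 12) = 64 * 4 ^ 12 * 4 ^ q := by ring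
        _ ≤ 12 ^ 3 * 13 ^ 6 * 13 ^ q := Nat.mul_le_mul (by norm_num) (Nat.pow_le_pow_left (by norm_num) q)
        _ = _ := by ring
    generalize f + (q + 11) * f + 1 = X at h3 h4 ⊢
    refine Nat.le_of_mul_le_mul_left ?_ (show 0 < 64 by norm_num)
    calc _ = (f + 1) ^ 6 * (q + 11) ^ 3 * (64 * 4 ^ (q + 12)) := by ring
      _ ≤ (f + 1) ^ 6 * (q + 12) ^ 3 * ((q + 12) ^ 3 * X ^ (q + 6)) := by
          refine Nat.mul_le_mul (by gcongr; omega) (h5.trans ?_)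
          gcongr
          omega
      _ = ((q + 12) * (f + 1)) ^ 6 * X ^ (q + 6) := by ring
      _ ≤ (2 * X) ^ 6 * X ^ (q + 6) := by gcongr
      _ = _ := by ring

theorem big_base (p : ℕ) (hp : 17 ≤ p) : 2 * p ^ 3 * 4 ^ p ≤ p ! := by
  induction p, hp using Nat.le_induction with
  | base => decide +kernel
  | succ p hp ih =>
    have h1 : 4 * (p + 1) ^ 2 ≤ p ^ 3 := by nlinarith
    calc 2 * (p + 1) ^ 3 * 4 ^ (p + 1) = (p + 1) * (2 * (4 * (p + 1) ^ 2) * 4 ^ p) := by ring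
      _ ≤ (p + 1) * (2 * p ^ 3 * 4 ^ p) := by gcongr
      _ ≤ (p + 1) * p ! := Nat.mul_le_mul_left _ ih
      _ = _ := (factorial_succ p).symm

theorem Q4_big {p : ℕ} (hp : p.Prime) (h11 : 11 ≤ p) (f j : ℕ) (hj : 1 ≤ j) (h : 17 ≤ p ∨ 2 ≤ j) (hf : f ≤ j) : Q 4 p f j := by
  rcases le_or_gt 17 p with h1 | h1
  · refine Q4_ind h11 le_rfl (fun f hf => ?_) j hj f (by omega)
    have h2 := big_base p h1
    unfold Q cb
    rcases (show f = 0 ∨ f = 1 by omega) with rfl | rfl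
    · simpa using h2
    · rw [mul_one, add_comm 1 p, factorial_succ]
      calc _ = 4 * (2 * p ^ 3 * 4 ^ p) := by simp; ring
        _ ≤ _ := Nat.mul_le_mul (by omega) h2
  · have h2 : p = 11 ∨ p = 13 := by
      interval_cases p <;> simp_all (config := { decide := true })
    rcases h2 with rfl | rfl
    · exact Q4_ind (j0 := 2) h11 (by norm_num) (by decide +kernel) j (by omega) f (by omega)
    · exact Q4_ind (j0 := 2) h11 (by norm_num) (by decide +kernel) j (by omega) f (by omega)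

theorem Q.le {B p f j n a : ℕ} (h : Q B p f j) (hn : n = f + p * j) (ha : a ≤ B ^ n) : 2 * cb p f j ^ 3 * a ≤ n ! := by
  subst hn
  exact (Nat.mul_le_mul_left _ ha).trans h

theorem le_of_bochert {c n a : ℕ} (h : c ≤ ((n + 1) / 2)!) (ha : a * ((n + 1) / 2)! ≤ n !) : c * a ≤ n ! :=
  le_trans (by rw [mul_comm]; exact Nat.mul_le_mul_left _ h) ha

end Cfsg.Agent.N2.Alt
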